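import Groth.Agent.KoszulLCI.SmoothCancel
import Groth.Agent.KoszulLCI.Regular
import Groth.Agent.LocCohTransform.BlowupTor
import Mathlib.RingTheory.MvPolynomial.Localization
import Mathlib.RingTheory.Flat.Localization
import Mathlib.Data.List.FinRange

/-!
# The affine blow-up algebra of a Koszul-regular sequence is a local complete intersection

For `a : Fin (t+1) → A` Koszul regular, `A[(a)/a₀]` is `A[X₁,…,X_t] ⧸ (a₀ X_l - a_l)` and the relations
form a Koszul-regular sequence.
-/

set_option autoImplicit false
set_option linter.style.haveILetI false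

universe u

open MvPolynomial CategoryTheory CategoryTheory.Limits TensorProduct
open Groth.KoszulLCI

namespace Groth.BlowUpLCI

variable {R : Type u} [CommRing R]

/-- Multiplying the head of a block by a common unit. -/
theorem isKoszulRegularSeq_map_unit_mul_append {ι : Type*} {u : R} (hu : IsUnit u) (g : ι → R) :
    ∀ (ls : List ι) (rest : List R), LCI.IsKoszulRegularSeq R (ls.map (fun i => u * g i) ++ rest) ↔
      LCI.IsKoszulRegularSeq R (ls.map g ++ rest)
  | [], rest => Iff.rfl
  | i :: ls, rest => by
    rw [List.map_cons, List.map_cons, List.cons_append, List.cons_append,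
      isKoszulRegularSeq_cons_unit_mul hu, ← isKoszulRegularSeq_perm List.perm_middle,
      isKoszulRegularSeq_map_unit_mul_append hu g ls (g i :: rest),
      isKoszulRegularSeq_perm List.perm_middle]

/-- Changing a block modulo an element of the tail. -/
theorem isKoszulRegularSeq_map_congr_append {ι : Type*} (g g' : ι → R) (c : R)
    (h : ∀ i, g i + g' i ∈ Ideal.span {c}) :
    ∀ (ls : List ι) (rest : List R), c ∈ rest →
      (LCI.IsKoszulRegularSeq R (ls.map g ++ rest) ↔ LCI.IsKoszulRegularSeq R (ls.map g' ++ rest))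
  | [], rest, _ => Iff.rfl
  | i :: ls, rest, hc => by
    have hc' : c ∈ Ideal.ofList (ls.map g' ++ rest) :=
      Ideal.subset_span (List.mem_append_right _ hc)
    rw [List.map_cons, List.map_cons, List.cons_append, List.cons_append,
      ← isKoszulRegularSeq_perm List.perm_middle,
      isKoszulRegularSeq_map_congr_append g g' c h ls (g i :: rest) (List.mem_cons_of_mem _ hc),
      isKoszulRegularSeq_perm List.perm_middle,
      isKoszulRegularSeq_cons_congr (g := -1 * g' i) _ (by
        rw [neg_one_mul, sub_neg_eq_add]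
        exact (Ideal.span_singleton_le_iff_mem _).mpr hc' (h i)),
      isKoszulRegularSeq_cons_unit_mul isUnit_one.neg]

/-- If `c :: l` is Koszul regular and `l` is Koszul regular after inverting `c`, then `l` is. -/
theorem isKoszulRegularSeq_of_away {c : R} {l : List R} (h : LCI.IsKoszulRegularSeq R (c :: l))
    (S : Type u) [CommRing S] [Algebra R S] [IsLocalization.Away c S]
    (hS : LCI.IsKoszulRegularSeq S (l.map (algebraMap R S))) : LCI.IsKoszulRegularSeq R l := by
  intro i hi
  rcases lt_or_gt_of_ne hi with hneg | hpos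
  swap
  · exact Groth.KoszulReg.isZero_koszul_homology l i hpos
  have hinj : ∀ x : H l i, c • x = 0 → x = 0 := by
    have := ((isKoszulRegularSeq_cons_iff c l).mp h (i - 1) (by omega)).2
    rwa [sub_add_cancel] at this
  have hflat : (algebraMap R S).Flat :=
    RingHom.flat_algebraMap_iff.mpr (IsLocalization.flat S (Submonoid.powers c))
  obtain ⟨e⟩ := nonempty_H_map_iso (algebraMap R S) hflat l i
  have := subsingleton_tensor_of_isZero _ ((hS i hi).of_iso e.symm)
  rw [isZero_iff_forall]
  intro x
  have : IsLocalizedModule (Submonoid.powers c) (TensorProduct.mk R S (H l i) 1) :=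
    (isLocalizedModule_iff_isBaseChange (Submonoid.powers c) S _).2
      (TensorProduct.isBaseChange R (H l i) S)
  have h0 : TensorProduct.mk R S (H l i) 1 x = 0 := Subsingleton.elim _ _
  obtain ⟨⟨_, n, rfl⟩, hn⟩ :=
    (IsLocalizedModule.eq_zero_iff (Submonoid.powers c) (TensorProduct.mk R S (H l i) 1)).mp h0
  change c ^ n • x = 0 at hn
  clear h0
  induction n generalizing x with
  | zero => rwa [pow_zero, one_smul] at hn
  | succ n ih =>
    refine hinj x (ih (c • x) ?_)
    rw [← mul_smul, ← pow_succ, hn]

variable {A : Type u} [CommRing A] {t : ℕ} (a : Fin (t + 1) → A)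

open Groth.LocCohTransform.BlowupTor

theorem map_C_ofFn :
    ((List.ofFn a).map (C (σ := Fin t))) =
      C (a 0) :: (List.finRange t).map fun l => (C (a l.succ) : MvPolynomial (Fin t) A) := by
  rw [List.ofFn_succ, List.map_cons, List.map_ofFn, List.ofFn_eq_map]
  rfl

theorem isKoszulRegularSeq_cons_rel (h : LCI.IsKoszulRegularSeq A (List.ofFn a)) :
    LCI.IsKoszulRegularSeq (MvPolynomial (Fin t) A) (C (a 0) :: List.ofFn (rel a)) := by
  have h1 := Groth.KoszulReg.isKoszulRegularSeq_map (C (σ := Fin t) : A →+* MvPolynomial (Fin t) A)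
    (RingHom.flat_algebraMap_iff.mpr inferInstance) _ h
  rw [map_C_ofFn, ← isKoszulRegularSeq_perm (List.perm_append_singleton _ _),
    ← isKoszulRegularSeq_map_congr_append (rel a) _ (C (a 0)) (fun l => ?_) _ _
      (List.mem_singleton_self _),
    isKoszulRegularSeq_perm (List.perm_append_singleton _ _), ← List.ofFn_eq_map] at h1
  · exact h1
  · rw [rel, sub_add_cancel]
    exact Ideal.mem_span_singleton.mpr (dvd_mul_right _ _)

theorem isKoszulRegularSeq_rel (h : LCI.IsKoszulRegularSeq A (List.ofFn a)) :
    LCI.IsKoszulRegularSeq (MvPolynomial (Fin t) A) (List.ofFn (rel a)) := by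
  let L := Localization.Away (a 0)
  let S := MvPolynomial (Fin t) L
  let _ : Algebra (MvPolynomial (Fin t) A) S := MvPolynomial.algebraMvPolynomial
  have hloc : IsLocalization.Away (C (a 0) : MvPolynomial (Fin t) A) S := by
    have := MvPolynomial.isLocalization (σ := Fin t) (Submonoid.powers (a 0)) L
    rwa [Submonoid.map_powers] at this
  refine isKoszulRegularSeq_of_away (isKoszulRegularSeq_cons_rel a h) S ?_
  have hu : IsUnit (C (algebraMap A L (a 0)) : S) := (IsLocalization.Away.algebraMap_isUnit _).map C
  let b : Fin t → L := fun l => IsLocalization.mk' L (a l.succ) ⟨a 0, Submonoid.mem_powers _⟩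
  have hb := isKoszulRegularSeq_sub_C t L b
  rw [← List.append_nil (List.ofFn _), List.ofFn_eq_map,
    ← isKoszulRegularSeq_map_unit_mul_append hu] at hb
  rw [List.ofFn_eq_map, List.map_map]
  convert hb using 1
  rw [List.append_nil]
  refine congrArg (fun f => (List.finRange t).map f) (funext fun l => ?_)
  show MvPolynomial.map (algebraMap A L) (rel a l) = _
  rw [rel, map_sub, map_mul, map_C, map_C, map_X, mul_sub, ← C_mul, spec]

theorem J_univ : J a Finset.univ = Ideal.ofList (List.ofFn (rel a)) := by
  rw [J, Finset.coe_univ, Set.image_univ, Ideal.ofList]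
  congr 1
  ext x
  simp [List.mem_ofFn]

theorem C_pres' (x : MvPolynomial (Fin t) A) :
    C ((pres a x : Localization.Away (a 0))) = ψ a Finset.univ x := by
  have h : ((IsScalarTower.toAlgHom A (Localization.Away (a 0)) (MvPolynomial (Fin t) _)).comp
      ((B a).val.comp (pres a))) = ψ a Finset.univ := by
    refine MvPolynomial.algHom_ext fun l => ?_
    simp [pres, ψ]
  exact AlgHom.congr_fun h x

theorem pres_surjective' : Function.Surjective (pres a) := by
  rw [← AlgHom.range_eq_top, eq_top_iff]
  rintro ⟨y, hy⟩ -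
  have key : y ∈ ((B a).val.comp (pres a)).range := by
    refine Algebra.adjoin_le ?_ hy
    rintro _ ⟨x, hx, rfl⟩
    rw [SetLike.mem_coe]
    induction hx using Submodule.span_induction with
    | mem z hz =>
      obtain ⟨k, rfl⟩ := hz
      induction k using Fin.cases with
      | zero =>
        refine ⟨1, ?_⟩
        rw [map_one, IsLocalization.eq_mk'_iff_mul_eq, one_mul]
      | succ l => exact ⟨X l, by simp [pres]⟩
    | zero => rw [IsLocalization.mk'_zero]; exact zero_mem _
    | add p q _ _ hp hq =>
      rw [show IsLocalization.mk' (Localization.Away (a 0)) (p + q) ⟨a 0, Submonoid.mem_powers _⟩ =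
        IsLocalization.mk' _ p ⟨a 0, Submonoid.mem_powers _⟩ + IsLocalization.mk' _ q ⟨a 0, Submonoid.mem_powers _⟩ from
          (IsLocalization.eq_mk'_iff_mul_eq.2 (by
            rw [map_add, add_mul, IsLocalization.mk'_spec, IsLocalization.mk'_spec])).symm]
      exact add_mem hp hq
    | smul r p _ hp =>
      rw [smul_eq_mul, ← IsLocalization.mul_mk'_eq_mk'_of_mul]
      exact mul_mem (Subalgebra.algebraMap_mem _ r) hp
  obtain ⟨x, hx⟩ := key
  exact ⟨x, Subtype.ext hx⟩

theorem ker_pres (h : LCI.IsKoszulRegularSeq A (List.ofFn a)) :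
    RingHom.ker (pres a).toRingHom = Ideal.ofList (List.ofFn (rel a)) := by
  rw [← J_univ]
  refine le_antisymm (fun x hx => ?_) fun x hx => ?_
  · have h0 : ψ a Finset.univ x = 0 := by
      rw [← C_pres', show pres a x = 0 from hx]
      exact map_zero C
    obtain ⟨N, hN⟩ := exists_pow_mul_mem a h0
    rw [J_univ] at hN ⊢
    induction N with
    | zero => rwa [pow_zero, one_mul] at hN
    | succ N ih =>
      rw [pow_succ', mul_assoc] at hN
      exact ih (mem_of_mul_mem (isKoszulRegularSeq_cons_rel a h) hN)
  · apply Subtype.ext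
    apply C_injective (Fin t) (Localization.Away (a 0))
    refine (C_pres' a x).trans ?_
    rw [ψ_eq_zero_of_mem a hx]
    exact (map_zero C).symm

theorem isLCI_B (h : LCI.IsKoszulRegularSeq A (List.ofFn a)) : LCI.IsLCI A (B a) := by
  refine ⟨Algebra.FiniteType.iff_quotient_mvPolynomial''.mpr ⟨t, pres a, pres_surjective' a⟩,
    t, pres a, pres_surjective' a, ?_⟩
  rw [ker_pres a h]
  exact isKoszulRegularIdeal_ofList (isKoszulRegularSeq_rel a h)

/-- The charts of the blow-up along a regular sequence are local complete intersections. -/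
theorem isLCI_affineAlgebra {c : ℕ} (f : Fin c → A)
    (hf : RingTheory.Sequence.IsWeaklyRegular A (List.ofFn f)) (k : Fin c) :
    LCI.IsLCI A (BlowUp.affineAlgebra A (Ideal.span (Set.range f)) (f k)) := by
  obtain ⟨t, rfl⟩ : ∃ t, c = t + 1 := ⟨c - 1, by have := k.2; omega⟩
  let σ : Equiv.Perm (Fin (t + 1)) := Equiv.swap 0 k
  have hK : LCI.IsKoszulRegularSeq A (List.ofFn (f ∘ σ)) :=
    (isKoszulRegularSeq_perm (Equiv.Perm.ofFn_comp_perm σ f)).mpr
      (isKoszulRegularSeq_of_isWeaklyRegular hf)
  have key : ∀ (I : Ideal A) (x : A), I = Ideal.span (Set.range (f ∘ σ)) → x = (f ∘ σ) 0 →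
      LCI.IsLCI A (BlowUp.affineAlgebra A I x) := by
    rintro _ _ rfl rfl
    exact isLCI_B (f ∘ σ) hK
  refine key _ _ (by rw [EquivLike.range_comp]) (by simp [σ])

end Groth.BlowUpLCI
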