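import Groth.Agent.BlowUpLCI.Scheme
import Mathlib.RingTheory.TensorProduct.MvPolynomial
import Mathlib.LinearAlgebra.TensorProduct.RightExactness
import Mathlib.AlgebraicGeometry.PullbackCarrier
import Groth.Prelude.Def_RegImm

/-!
# Base change of blow-ups in Koszul-regular ideals
-/

set_option autoImplicit false
set_option linter.style.haveILetI false

universe u

open CategoryTheory CategoryTheory.Limits AlgebraicGeometry TensorProduct MvPolynomial
open Groth.BlowUpBasics Groth.KoszulLCI Groth.LocCohTransform.BlowupTor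

namespace Groth.BlowUpLCI

variable {A A' : Type u} [CommRing A] [CommRing A'] [Algebra A A'] {t : ℕ} (a : Fin (t + 1) → A)

theorem tmul_mem_nonZeroDivisors_B (h : LCI.IsKoszulRegularSeq A (List.ofFn a))
    (h' : LCI.IsKoszulRegularSeq A' (List.ofFn (algebraMap A A' ∘ a))) :
    (algebraMap A A' (a 0)) ⊗ₜ[A] (1 : B a) ∈ nonZeroDivisors (A' ⊗[A] B a) := by
  let Φ : A' ⊗[A] MvPolynomial (Fin t) A →ₐ[A] A' ⊗[A] B a :=
    Algebra.TensorProduct.map (AlgHom.id A A') (pres a)
  let e : A' ⊗[A] MvPolynomial (Fin t) A ≃ₐ[A'] MvPolynomial (Fin t) A' :=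
    MvPolynomial.algebraTensorAlgEquiv A A'
  have hΦ : Function.Surjective Φ :=
    Algebra.TensorProduct.map_surjective _ _ Function.surjective_id (pres_surjective' a)
  have hker : RingHom.ker Φ = (RingHom.ker (pres a)).map
      (Algebra.TensorProduct.includeRight : MvPolynomial (Fin t) A →ₐ[A] A' ⊗[A] MvPolynomial (Fin t) A) :=
    Algebra.TensorProduct.lTensor_ker _ (pres_surjective' a)
  have hrel : ∀ l, e ((1 : A') ⊗ₜ[A] rel a l) = rel (algebraMap A A' ∘ a) l := fun l => by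
    rw [MvPolynomial.algebraTensorAlgEquiv_tmul, one_smul]
    simp [rel]
  have hker' : (RingHom.ker Φ).map e.toRingEquiv.toRingHom =
      Ideal.ofList (List.ofFn (rel (algebraMap A A' ∘ a))) := by
    rw [hker, show RingHom.ker (pres a) = Ideal.ofList (List.ofFn (rel a)) from ker_pres a h]
    simp only [Ideal.ofList, Ideal.map_span, Set.image_image]
    congr 1
    ext x
    simp only [Set.mem_image, List.mem_ofFn, Set.mem_ofPred_eq]
    exact ⟨fun ⟨_, ⟨l, hl⟩, hx⟩ => ⟨l, by rw [← hx, ← hl]; exact (hrel l).symm⟩,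
      fun ⟨l, hl⟩ => ⟨_, ⟨l, rfl⟩, (hrel l).trans hl⟩⟩
  rw [mem_nonZeroDivisors_iff_right]
  intro z hz
  obtain ⟨y, rfl⟩ := hΦ z
  have hc : Φ (algebraMap A A' (a 0) ⊗ₜ[A] (1 : MvPolynomial (Fin t) A)) =
      algebraMap A A' (a 0) ⊗ₜ[A] (1 : B a) := by simp [Φ]
  rw [← hc, ← map_mul] at hz
  have h1 := Ideal.mem_map_of_mem e.toRingEquiv.toRingHom
    (show y * algebraMap A A' (a 0) ⊗ₜ[A] (1 : MvPolynomial (Fin t) A) ∈ RingHom.ker Φ from hz)
  rw [hker', map_mul] at h1
  have he : e.toRingEquiv.toRingHom (algebraMap A A' (a 0) ⊗ₜ[A] (1 : MvPolynomial (Fin t) A)) =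
      C ((algebraMap A A' ∘ a) 0) := by
    change e _ = _
    rw [MvPolynomial.algebraTensorAlgEquiv_tmul, map_one, Algebra.smul_def, mul_one]
    rfl
  rw [he, mul_comm] at h1
  have h2 := mem_of_mul_mem (isKoszulRegularSeq_cons_rel _ h') h1
  rw [← hker'] at h2
  refine (RingHom.mem_ker (f := Φ)).mp ?_
  rw [← Ideal.comap_map_of_bijective e.toRingEquiv.toRingHom e.toRingEquiv.bijective (I := RingHom.ker Φ)]
  exact Ideal.mem_comap.mpr h2

theorem tmul_mem_nonZeroDivisors {c : ℕ} (f : Fin c → A) (h : LCI.IsKoszulRegularSeq A (List.ofFn f))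
    (h' : LCI.IsKoszulRegularSeq A' (List.ofFn (algebraMap A A' ∘ f))) (k : Fin c) :
    (algebraMap A A' (f k)) ⊗ₜ[A] (1 : BlowUp.affineAlgebra A (Ideal.span (Set.range f)) (f k)) ∈
      nonZeroDivisors (A' ⊗[A] BlowUp.affineAlgebra A (Ideal.span (Set.range f)) (f k)) := by
  obtain ⟨t, rfl⟩ : ∃ t, c = t + 1 := ⟨c - 1, by have := k.2; omega⟩
  let σ : Equiv.Perm (Fin (t + 1)) := Equiv.swap 0 k
  have hK : LCI.IsKoszulRegularSeq A (List.ofFn (f ∘ σ)) :=
    (isKoszulRegularSeq_perm (Equiv.Perm.ofFn_comp_perm σ f)).mpr h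
  have hK' : LCI.IsKoszulRegularSeq A' (List.ofFn (algebraMap A A' ∘ (f ∘ σ))) :=
    (isKoszulRegularSeq_perm (Equiv.Perm.ofFn_comp_perm σ (algebraMap A A' ∘ f))).mpr h'
  have key : ∀ (I : Ideal A) (x : A), I = Ideal.span (Set.range (f ∘ σ)) → x = (f ∘ σ) 0 →
      (algebraMap A A' x) ⊗ₜ[A] (1 : BlowUp.affineAlgebra A I x) ∈
        nonZeroDivisors (A' ⊗[A] BlowUp.affineAlgebra A I x) := by
    rintro _ _ rfl rfl
    exact tmul_mem_nonZeroDivisors_B (f ∘ σ) hK hK'
  exact key _ _ (by rw [EquivLike.range_comp]) (by simp [σ])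

omit [Algebra A A'] in
theorem isEffCartierIdeal_of_openCover {X : Scheme.{u}} {J : X.IdealSheafData}
    (h : ∀ x : X, ∃ (S : Scheme.{u}) (s : S ⟶ X) (_ : IsOpenImmersion s), x ∈ Set.range s ∧
      BlowUp.IsEffCartierIdeal (J.comap s)) : BlowUp.IsEffCartierIdeal J := by
  intro x
  obtain ⟨S, s, _, ⟨y, rfl⟩, hC⟩ := h x
  obtain ⟨U, hyU, f, hf, hU⟩ := hC y
  let V : X.affineOpens := ⟨s ''ᵁ U.1, U.2.image_of_isOpenImmersion s⟩
  refine ⟨V, ⟨y, hyU, rfl⟩, (s.appIso U.1).inv.hom f, ?_, ?_⟩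
  · exact map_mem_nonZeroDivisors_of_flat
      (RingHom.Flat.of_bijective (s.appIso U.1).symm.commRingCatIsoToRingEquiv.bijective) hf
  · have e : U.1 ≤ s ⁻¹ᵁ V.1 := (s.preimage_image_eq U.1).ge
    have h1 := ideal_comap s J V U e
    rw [hU] at h1
    have h2 := congrArg (fun K => K.map (s.appIso U.1).inv.hom) h1
    simp only [Ideal.map_span, Set.image_singleton] at h2
    rw [h2, Ideal.map_map, ← CommRingCat.hom_comp, ← Scheme.Hom.appIso_hom', Iso.hom_inv_id,
      CommRingCat.hom_id, Ideal.map_id]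

omit [Algebra A A'] in
theorem isEffCartierIdeal_pullback_chart {c : ℕ} (f : Fin c → A) (φ : A →+* A')
    (h : LCI.IsKoszulRegularSeq A (List.ofFn f))
    (h' : LCI.IsKoszulRegularSeq A' (List.ofFn (φ ∘ f))) (k : Fin c) :
    BlowUp.IsEffCartierIdeal ((sheafOf (Ideal.span (Set.range f))).comap
      (pullback.fst (Spec.map (CommRingCat.ofHom φ)) (chartBase (Ideal.span (Set.range f)) (f k)) ≫
        Spec.map (CommRingCat.ofHom φ))) := by
  let _ := φ.toAlgebra
  set I := Ideal.span (Set.range f) with hI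
  let Bk := BlowUp.affineAlgebra A I (f k)
  change BlowUp.IsEffCartierIdeal ((sheafOf I).comap
    (pullback.fst (Spec.map (CommRingCat.ofHom (algebraMap A A')))
      (Spec.map (CommRingCat.ofHom (algebraMap A Bk))) ≫ Spec.map (CommRingCat.ofHom (algebraMap A A'))))
  rw [pullback.condition, ← pullbackSpecIso_hom_snd A A' Bk, Category.assoc, ← Spec.map_comp,
    ← CommRingCat.ofHom_comp, Scheme.IdealSheafData.comap_comp, comap_sheafOf_Spec]
  refine isEffCartierIdeal_comap_of_flat _ ?_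
  have hmap : I.map ((Algebra.TensorProduct.includeRight (R := A) (A := A') (B := Bk)).toRingHom.comp
      (algebraMap A Bk)) = Ideal.span {algebraMap A A' (f k) ⊗ₜ[A] (1 : Bk)} := by
    rw [← Ideal.map_map, map_eq_span (Ideal.subset_span ⟨k, rfl⟩ : f k ∈ I), Ideal.map_span,
      Set.image_singleton]
    refine congrArg (fun z => Ideal.span {z}) ?_
    show (1 : A') ⊗ₜ[A] algebraMap A Bk (f k) = _
    rw [Algebra.algebraMap_eq_smul_one, Algebra.algebraMap_eq_smul_one, ← smul_tmul]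
  refine hmap ▸ isEffCartierIdeal_sheafOf_span ?_
  exact tmul_mem_nonZeroDivisors f h h' k

omit [Algebra A A'] in
theorem isEffCartierIdeal_comap_pullback {c : ℕ} (f : Fin c → A) (φ : A →+* A')
    (h : LCI.IsKoszulRegularSeq A (List.ofFn f))
    (h' : LCI.IsKoszulRegularSeq A' (List.ofFn (φ ∘ f))) {P : Scheme.{u}}
    (b : P ⟶ Spec (CommRingCat.of A))
    (hb : BlowUp.IsBlowUp b (sheafOf (Ideal.span (Set.range f)))) :
    BlowUp.IsEffCartierIdeal ((sheafOf (Ideal.span (Set.range f))).comap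
      (pullback.fst (Spec.map (CommRingCat.ofHom φ)) b ≫ Spec.map (CommRingCat.ofHom φ))) := by
  set I := Ideal.span (Set.range f) with hI
  obtain ⟨T⟩ := nonempty_atlas_of_isBlowUp hb
  let a : Fin c → I := fun k => ⟨f k, Ideal.subset_span ⟨k, rfl⟩⟩
  have hcov : ∀ x : P, ∃ k, x ∈ Set.range (T.j (a k)) := by
    intro x
    obtain ⟨a', y, rfl⟩ := T.covers x
    obtain ⟨k, hk⟩ : ∃ k, frac I (a' : A) (f k) (a k).2 ∉ y.asIdeal := by
      by_contra! hall
      exact Groth.Agf.BlowUpExceptional.frac_mem_false f I rfl _ a'.2 _ y.isPrime.ne_top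
        (fun k => (a k).2) hall
    exact ⟨k, T.overlap (a k) a' y hk⟩
  refine isEffCartierIdeal_of_openCover fun x => ?_
  obtain ⟨k, hk⟩ := hcov (pullback.snd (Spec.map (CommRingCat.ofHom φ)) b x)
  have hopen := T.isOpenImmersion (a k)
  refine ⟨_, pullback.map (Spec.map (CommRingCat.ofHom φ)) (chartBase I (f k))
    (Spec.map (CommRingCat.ofHom φ)) b (𝟙 _) (T.j (a k)) (𝟙 _) (by simp) (by simp [T.fac, a]),
    inferInstance, ?_, ?_⟩
  · rw [Scheme.Pullback.range_map]
    exact ⟨by simp, hk⟩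
  · rw [← Scheme.IdealSheafData.comap_comp, ← Category.assoc, pullback.lift_fst, Category.comp_id]
    exact isEffCartierIdeal_pullback_chart f φ h h' k

omit [CommRing A] [CommRing A'] in
theorem isBlowUp_pullback_snd {X X' B : Scheme.{u}} (𝓘 : X.IdealSheafData) (g : X' ⟶ X)
    (hI : ∀ x : X, x ∈ 𝓘.support → ∃ U : X.affineOpens, x ∈ U.1 ∧ ∃ rs : List Γ(X, U.1),
      LCI.IsKoszulRegularSeq Γ(X, U.1) rs ∧ 𝓘.ideal U = Ideal.ofList rs)
    (hg : ∀ (U : X.affineOpens) (rs : List Γ(X, U.1)), LCI.IsKoszulRegularSeq Γ(X, U.1) rs →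
      𝓘.ideal U = Ideal.ofList rs → ∀ (V : X'.affineOpens) (e : V.1 ≤ g ⁻¹ᵁ U.1),
        LCI.IsKoszulRegularSeq Γ(X', V.1) (rs.map fun r => (g.appLE U.1 V.1 e).hom r))
    (b : B ⟶ X) (hb : BlowUp.IsBlowUp b 𝓘) :
    BlowUp.IsBlowUp (pullback.snd b g) (𝓘.comap g) := by
  refine ⟨?_, fun Y g' hC => ?_⟩
  · rw [← Scheme.IdealSheafData.comap_comp]
    refine isEffCartierIdeal_of_openCover fun p => ?_
    by_cases hp : g (pullback.snd b g p) ∈ 𝓘.support
    · obtain ⟨U, hxU, rs, hrs, hid⟩ := hI _ hp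
      obtain ⟨_, ⟨V, hV, rfl⟩, hxV, hVU⟩ := X'.isBasis_affineOpens.exists_subset_of_mem_open
        (show pullback.snd b g p ∈ g ⁻¹ᵁ U.1 from hxU) (g ⁻¹ᵁ U.1).isOpen
      set φ := (g.appLE U.1 V hVU).hom
      have hrs' := hg U rs hrs hid ⟨V, hV⟩ hVU
      rw [show (rs.map fun r => φ r) = List.ofFn (φ ∘ rs.get) by
        rw [← List.map_ofFn, List.ofFn_get]] at hrs'
      rw [← List.ofFn_get rs] at hrs
      have hP : IsPullback (pullback.fst b U.2.fromSpec) (pullback.snd b U.2.fromSpec) b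
        U.2.fromSpec := IsPullback.of_hasPullback _ _
      have hb' : BlowUp.IsBlowUp (pullback.snd b U.2.fromSpec) (𝓘.comap U.2.fromSpec) :=
        isBlowUp_of_isPullback hb hP.flip
      rw [comap_fromSpec, hid, Ideal.ofList, ← List.ofFn_get rs] at hb'
      simp only [List.mem_ofFn] at hb'
      have hC := isEffCartierIdeal_comap_pullback rs.get φ hrs hrs' _ hb'
      set σ := Spec.map (CommRingCat.ofHom φ)
      have hσ : σ ≫ U.2.fromSpec = hV.fromSpec ≫ g := U.2.SpecMap_appLE_fromSpec g hV hVU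
      let r : pullback σ (pullback.snd b U.2.fromSpec) ⟶ pullback b g :=
        pullback.lift (pullback.snd _ _ ≫ pullback.fst _ _) (pullback.fst _ _ ≫ hV.fromSpec) (by
          rw [Category.assoc, pullback.condition, ← Category.assoc, ← pullback.condition,
            Category.assoc, hσ, Category.assoc])
      have hr1 : r ≫ pullback.fst b g = pullback.snd _ _ ≫ pullback.fst _ _ := pullback.lift_fst _ _ _
      have hr2 : r ≫ pullback.snd b g = pullback.fst _ _ ≫ hV.fromSpec := pullback.lift_snd _ _ _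
      have hsq : IsPullback (pullback.fst σ (pullback.snd b U.2.fromSpec)) r hV.fromSpec
          (pullback.snd b g) := by
        refine IsPullback.of_bot ?_ hr2.symm (IsPullback.of_hasPullback b g).flip
        rw [hr1, ← hσ]
        exact (IsPullback.of_hasPullback σ (pullback.snd b U.2.fromSpec)).paste_vert
          (IsPullback.flip hP) |>.flip.flip
      have : IsOpenImmersion r :=
        MorphismProperty.of_isPullback (P := @IsOpenImmersion) hsq inferInstance
      refine ⟨_, r, this, ?_, ?_⟩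
      · rw [← hsq.flip.isoPullback_hom_fst, Scheme.Hom.comp_base, TopCat.coe_comp, Set.range_comp,
          Set.range_eq_univ.mpr (Scheme.Hom.surjective _), Set.image_univ, Scheme.Pullback.range_fst,
          hV.range_fromSpec]
        exact hxV
      · rw [← Scheme.IdealSheafData.comap_comp, ← Category.assoc, hr2, Category.assoc, ← hσ,
          ← Category.assoc, Scheme.IdealSheafData.comap_comp, comap_fromSpec, hid, Ideal.ofList,
          ← List.ofFn_get rs]
        simp only [List.mem_ofFn]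
        exact hC
    · let W : (pullback b g).Opens := (pullback.snd b g ≫ g) ⁻¹ᵁ
        ⟨(𝓘.support : Set X)ᶜ, 𝓘.support.isClosed.isOpen_compl⟩
      refine ⟨_, W.ι, inferInstance, ?_, ?_⟩
      · rw [Scheme.Opens.range_ι]; exact hp
      · rw [← Scheme.IdealSheafData.comap_comp, comap_eq_top_of_range_subset _ _ (by
          rintro _ ⟨w, rfl⟩; exact w.2)]
        exact isEffCartierIdeal_top
  · rw [← Scheme.IdealSheafData.comap_comp] at hC
    obtain ⟨h₀, hh₀, huniq⟩ := hb.2 Y (g' ≫ g) hC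
    refine ⟨pullback.lift h₀ g' hh₀, pullback.lift_snd _ _ _, fun h' hh' => ?_⟩
    refine pullback.hom_ext ?_ (hh'.trans (pullback.lift_snd _ _ _).symm)
    rw [pullback.lift_fst]
    refine huniq _ ?_
    change (h' ≫ pullback.fst b g) ≫ b = g' ≫ g
    simp only at hh'
    rw [Category.assoc, pullback.condition, ← Category.assoc, hh']

end Groth.BlowUpLCI
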