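import Groth.Agent.RelVA.Bundle
import Mathlib.LinearAlgebra.Basis.Basic

/-!
# The standard pieces of a projective bundle of a free module are affine spaces
-/

universe u

open CategoryTheory CategoryTheory.Limits AlgebraicGeometry Opposite TopologicalSpace
open scoped HomogeneousIdeal

set_option backward.isDefEq.respectTransparency.types false
set_option linter.style.haveILetI false

noncomputable section

namespace Groth.BlowUpLCI

open Groth.PicAux Groth.RelTw Groth.RelVA

variable {S : Scheme.{u}} {E : S.Modules} [E.IsQuasicoherent] (B : Bdl E) {U : S.Opens}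
  (hU : IsAffineOpen U) {t : ℕ} (b : Module.Basis (Fin (t + 1)) Γ(S, U) Γ(E, U))

/-- The base in the functions of a piece. -/
def baseHom (e : Γ(E, U)) : Γ(S, U) →+* Γ(B.P, B.D U hU e) :=
  (resX B.P (dPlus_le U hU e)).comp (B.p.app U).hom

/-- The ratio on a piece. -/
def coordRatio (e e' : Γ(E, U)) : Γ(B.P, B.D U hU e) :=
  (coord B.hj B.chart U hU e).hom (jfrac B.hj U hU e 1 (B.hj.2 U hU e'))

theorem coordRatio_self (e : Γ(E, U)) : coordRatio B hU e e = 1 := by
  rw [coordRatio, show jfrac B.hj U hU e 1 (B.hj.2 U hU e) = 1 from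
    HomogeneousLocalization.val_injective _ (by
      rw [HomogeneousLocalization.val_one, HomogeneousLocalization.Away.val_mk]
      simp only [pow_one]
      exact Localization.mk_self (⟨jel B.alg B.j U e, Submonoid.mem_powers _⟩ : Submonoid.powers (jel B.alg B.j U e)))]
  exact map_one _

theorem coordRatio_add (e x y : Γ(E, U)) :
    coordRatio B hU e (x + y) = coordRatio B hU e x + coordRatio B hU e y := by
  rw [coordRatio, coordRatio, coordRatio, ← map_add, ← jfrac_add B.hj U hU e (B.hj.2 U hU x) (B.hj.2 U hU y)]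
  exact congrArg _ (jfrac_congr B.hj U hU e rfl (map_add (B.j.app U).hom x y) _ _)

theorem coordRatio_smul (e : Γ(E, U)) (a : Γ(S, U)) (x : Γ(E, U)) :
    coordRatio B hU e (a • x) = baseHom B hU e a * coordRatio B hU e x := by
  have h1 : (coord B.hj B.chart U hU e).hom (jfrac B.hj U hU e 0 (B.alg.str_mem U hU a)) = baseHom B hU e a :=
    coord_str B.hj B.hP U hU e a
  rw [← h1, coordRatio, coordRatio, ← map_mul,
    ← jfrac_mul B.hj U hU e (B.alg.str_mem U hU a) (B.hj.2 U hU x)]
  exact congrArg _ (jfrac_congr B.hj U hU e (zero_add 1).symm (B.j.app_smul a x) _ _)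

/-- The coordinates. -/
def polyToPiece : MvPolynomial (Fin t) Γ(S, U) →+* Γ(B.P, B.D U hU (b 0)) :=
  MvPolynomial.eval₂Hom (baseHom B hU (b 0)) fun l => coordRatio B hU (b 0) (b l.succ)

/-- The dehomogenised linear forms. -/
def dehom : Γ(E, U) →ₗ[Γ(S, U)] MvPolynomial (Fin t) Γ(S, U) :=
  b.constr Γ(S, U) (Fin.cons 1 MvPolynomial.X)

theorem dehom_zero : dehom b (b 0) = 1 := by simp [dehom]

theorem dehom_succ (l : Fin t) : dehom b (b l.succ) = MvPolynomial.X l := by simp [dehom]

theorem dehom_smul (r : Γ(S, U)) (e : Γ(E, U)) : dehom b (r • e) = MvPolynomial.C r * dehom b e := by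
  rw [map_smul, MvPolynomial.smul_eq_C_mul]

/-- Dehomogenisation of the symmetric algebra. -/
def dehomAlg : (B.alg.presheaf.obj (op U) : Type u) →+* MvPolynomial (Fin t) Γ(S, U) :=
  (Groth.SymAlg.liftHom MvPolynomial.C (dehom b).toAddMonoidHom (dehom_smul b)).comp
    (RingEquiv.ofBijective _ (Groth.SymAlg.bijective_liftSec B.hj.1 hU)).symm.toRingHom

include hU in
theorem dehomAlg_j (e : Γ(E, U)) : dehomAlg B hU b (jel B.alg B.j U e) = dehom b e := by
  rw [show jel B.alg B.j U e = Groth.SymAlg.liftSec B.alg.toQCAlg B.j U (SymmetricAlgebra.ι _ _ e) from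
    (Groth.SymAlg.liftSec_ι _ _ U e).symm, dehomAlg]
  exact (congrArg (Groth.SymAlg.liftHom MvPolynomial.C (dehom b).toAddMonoidHom (dehom_smul b))
    ((RingEquiv.ofBijective _ (Groth.SymAlg.bijective_liftSec B.hj.1 hU)).symm_apply_apply _)).trans
    (Groth.SymAlg.liftHom_ι _ _ _ e)

theorem dehomAlg_str (a : Γ(S, U)) :
    dehomAlg B hU b ((B.alg.str.app (op U)).hom a) = MvPolynomial.C a := by
  rw [show (B.alg.str.app (op U)).hom a = Groth.SymAlg.liftSec B.alg.toQCAlg B.j U (algebraMap _ _ a) from
    (Groth.SymAlg.liftSec_algebraMap _ _ U a).symm, dehomAlg]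
  exact (congrArg (Groth.SymAlg.liftHom MvPolynomial.C (dehom b).toAddMonoidHom (dehom_smul b))
    ((RingEquiv.ofBijective _ (Groth.SymAlg.bijective_liftSec B.hj.1 hU)).symm_apply_apply _)).trans
    (Groth.SymAlg.liftHom_algebraMap _ _ _ a)

/-- The inverse coordinates on fractions. -/
def fracToPoly : HomogeneousLocalization.Away (B.alg.deg U hU) (jel B.alg B.j U (b 0)) →+*
    MvPolynomial (Fin t) Γ(S, U) :=
  (IsLocalization.Away.lift (S := Localization.Away (jel B.alg B.j U (b 0))) (jel B.alg B.j U (b 0))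
      (g := dehomAlg B hU b) (by rw [dehomAlg_j, dehom_zero]; exact isUnit_one)).comp
    (algebraMap _ _)

theorem fracToPoly_jfrac (k : ℕ) {x : B.alg.presheaf.obj (op U)} (hx : x ∈ B.alg.deg U hU k) :
    fracToPoly B hU b (jfrac B.hj U hU (b 0) k hx) = dehomAlg B hU b x := by
  rw [fracToPoly, RingHom.comp_apply, HomogeneousLocalization.algebraMap_apply,
    HomogeneousLocalization.Away.val_mk, Localization.mk_eq_mk', IsLocalization.Away.lift,
    IsLocalization.lift_mk', Units.mul_inv_eq_iff_eq_mul, IsUnit.coe_liftRight]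
  simp [map_pow, dehomAlg_j, dehom_zero]

/-- The inverse coordinates. -/
def pieceToPoly : Γ(B.P, B.D U hU (b 0)) →+* MvPolynomial (Fin t) Γ(S, U) :=
  (fracToPoly B hU b).comp (coord B.hj B.chart U hU (b 0)).inv.hom

theorem pieceToPoly_coord (q : HomogeneousLocalization.Away (B.alg.deg U hU) (jel B.alg B.j U (b 0))) :
    pieceToPoly B hU b ((coord B.hj B.chart U hU (b 0)).hom q) = fracToPoly B hU b q :=
  congrArg (fracToPoly B hU b) (congr(($((coord B.hj B.chart U hU (b 0)).hom_inv_id)).hom q))

theorem pieceToPoly_baseHom (a : Γ(S, U)) :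
    pieceToPoly B hU b (baseHom B hU (b 0) a) = MvPolynomial.C a := by
  rw [show baseHom B hU (b 0) a = (coord B.hj B.chart U hU (b 0)).hom
      (jfrac B.hj U hU (b 0) 0 (B.alg.str_mem U hU a)) from (coord_str B.hj B.hP U hU (b 0) a).symm,
    pieceToPoly_coord, fracToPoly_jfrac, dehomAlg_str]

theorem pieceToPoly_coordRatio (e : Γ(E, U)) :
    pieceToPoly B hU b (coordRatio B hU (b 0) e) = dehom b e := by
  rw [coordRatio, pieceToPoly_coord, fracToPoly_jfrac]
  exact dehomAlg_j B hU b e

theorem polyToPiece_C (a : Γ(S, U)) :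
    polyToPiece B hU b (MvPolynomial.C a) = baseHom B hU (b 0) a :=
  MvPolynomial.eval₂Hom_C _ _ a

theorem polyToPiece_dehom (e : Γ(E, U)) :
    polyToPiece B hU b (dehom b e) = coordRatio B hU (b 0) e := by
  let _ := (baseHom B hU (b 0)).toAlgebra
  let L₁ : Γ(E, U) →ₗ[Γ(S, U)] Γ(B.P, B.D U hU (b 0)) :=
    { toFun := fun e => polyToPiece B hU b (dehom b e)
      map_add' := fun x y => by rw [map_add, map_add]
      map_smul' := fun r x => by
        rw [dehom_smul, map_mul, polyToPiece_C, Algebra.smul_def, RingHom.algebraMap_toAlgebra]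
        rfl }
  let L₂ : Γ(E, U) →ₗ[Γ(S, U)] Γ(B.P, B.D U hU (b 0)) :=
    { toFun := coordRatio B hU (b 0)
      map_add' := coordRatio_add B hU (b 0)
      map_smul' := fun r x => by
        rw [coordRatio_smul, Algebra.smul_def, RingHom.algebraMap_toAlgebra]
        rfl }
  suffices L₁ = L₂ from LinearMap.congr_fun this e
  refine b.ext fun k => ?_
  induction k using Fin.cases with
  | zero =>
    change polyToPiece B hU b (dehom b (b 0)) = coordRatio B hU (b 0) (b 0)
    rw [dehom_zero, map_one, coordRatio_self]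
  | succ l =>
    change polyToPiece B hU b (dehom b (b l.succ)) = coordRatio B hU (b 0) (b l.succ)
    rw [dehom_succ]
    exact MvPolynomial.eval₂Hom_X' _ _ l

theorem bijective_polyToPiece : Function.Bijective (polyToPiece B hU b) := by
  have h1 : (pieceToPoly B hU b).comp (polyToPiece B hU b) = RingHom.id _ := by
    refine MvPolynomial.ringHom_ext (fun a => ?_) fun l => ?_
    · rw [RingHom.comp_apply, polyToPiece_C, pieceToPoly_baseHom]; rfl
    · rw [RingHom.comp_apply, show polyToPiece B hU b (MvPolynomial.X l) = coordRatio B hU (b 0) (b l.succ)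
        from MvPolynomial.eval₂Hom_X' _ _ l, pieceToPoly_coordRatio, dehom_succ]
      rfl
  have h2 : (polyToPiece B hU b).comp (pieceToPoly B hU b) = RingHom.id _ := by
    refine hom_ext_dPlus B.hj B.hP U hU (b 0) _ _ (fun a => ?_) fun e => ?_
    · change polyToPiece B hU b (pieceToPoly B hU b (baseHom B hU (b 0) a)) = baseHom B hU (b 0) a
      rw [pieceToPoly_baseHom, polyToPiece_C]
    · change polyToPiece B hU b (pieceToPoly B hU b (coordRatio B hU (b 0) e)) = coordRatio B hU (b 0) e
      rw [pieceToPoly_coordRatio, polyToPiece_dehom]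
  exact ⟨Function.LeftInverse.injective (g := pieceToPoly B hU b) (RingHom.congr_fun h1),
    Function.RightInverse.surjective (g := pieceToPoly B hU b) (RingHom.congr_fun h2)⟩

end Groth.BlowUpLCI
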