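import Groth.Agent.BlowUpLCI.BundleConormalAux
import Groth.Agent.KoszulLCI.Local
import Groth.Prelude.Def_Omega2

/-!
# The conormal sheaf of a blow-up in the projective bundle
-/

set_option autoImplicit false

universe u

open CategoryTheory CategoryTheory.Limits AlgebraicGeometry Opposite TopologicalSpace

set_option backward.isDefEq.respectTransparency.types false
set_option linter.style.haveILetI false

noncomputable section

namespace Groth.BlowUpLCI

open Groth.PicAux Groth.RelTw Groth.RelVA Groth.KoszulLCI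

variable {X X' P : Scheme.{u}} {E : X.Modules} {J : X.IdealSheafData}

theorem ideal_eq_span (u : E ⟶ Coh.structureModule X)
    (hJ : ∀ U : X.affineOpens, J.ideal U = @Ideal.span Γ(X, U.1) _
      (Set.range fun s : E.val.obj (op U.1) => ((u.val.app (op U.1)).hom s : Γ(X, U.1))))
    {U : X.Opens} (hU : IsAffineOpen U) {n : ℕ} (b : Module.Basis (Fin n) Γ(X, U) Γ(E, U)) :
    J.ideal ⟨U, hU⟩ = Ideal.span (Set.range fun k => OmegaSh.fnSect X U (u.app U (b k))) := by
  rw [hJ ⟨U, hU⟩]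
  refine le_antisymm (Ideal.span_le.2 ?_) (Ideal.span_mono ?_)
  · rintro _ ⟨x, rfl⟩
    let L : Γ(E, U) →ₗ[Γ(X, U)] Γ(X, U) :=
      { toFun := fun y => OmegaSh.fnSect X U (u.app U y)
        map_add' := fun y y' => by rw [map_add, map_add]
        map_smul' := fun r y => by rw [Scheme.Modules.Hom.app_smul]; rfl }
    have hx : ∀ y : Γ(E, U), L y ∈ Ideal.span (Set.range fun k => OmegaSh.fnSect X U (u.app U (b k))) := fun y => by
      rw [← b.sum_repr y, map_sum]
      refine Ideal.sum_mem _ fun k _ => ?_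
      rw [map_smul, smul_eq_mul]
      exact Ideal.mul_mem_left _ _ (Ideal.subset_span ⟨k, rfl⟩)
    exact hx x
  · rintro _ ⟨k, rfl⟩
    exact ⟨b k, rfl⟩

/-- Regularity along the centre gives Koszul regularity everywhere. -/
theorem exists_koszul_basis (hE : FlatMod.IsFinLocFree E) (u : E ⟶ Coh.structureModule X)
    (hJ : ∀ U : X.affineOpens, J.ideal U = @Ideal.span Γ(X, U.1) _
      (Set.range fun s : E.val.obj (op U.1) => ((u.val.app (op U.1)).hom s : Γ(X, U.1))))
    (hu : ∀ y : X, y ∈ J.support → ∃ U : X.affineOpens, y ∈ U.1 ∧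
      ∃ (n : ℕ) (b : Module.Basis (Fin n) Γ(X, U.1) (E.val.obj (op U.1))),
        RegImm.Kind.Seq RegImm.Kind.regular Γ(X, U.1)
          (List.ofFn fun k => ((u.val.app (op U.1)).hom (b k) : Γ(X, U.1))))
    (x : X) : ∃ U : X.affineOpens, x ∈ U.1 ∧
      ∃ (n : ℕ) (b : Module.Basis (Fin n) Γ(X, U.1) (E.val.obj (op U.1))),
        LCI.IsKoszulRegularSeq Γ(X, U.1) (List.ofFn fun k => ((u.val.app (op U.1)).hom (b k) : Γ(X, U.1))) := by
  by_cases hx : x ∈ J.support
  · obtain ⟨U, hxU, n, b, hb⟩ := hu x hx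
    have hb' : RingTheory.Sequence.IsRegular Γ(X, U.1) _ := hb
    exact ⟨U, hxU, n, b, Groth.KoszulReg.isKoszulRegularSeq_of_isWeaklyRegular hb'.toIsWeaklyRegular⟩
  · obtain ⟨U, n, s, hU, hxU, hs⟩ := Groth.LocFree.exists_affine_basis hE x
    obtain ⟨W, hW, hxW, hWU⟩ := exists_isAffineOpen_mem_and_subset (x := x)
      (U := U ⊓ ⟨(J.support : Set X)ᶜ, J.support.isClosed.isOpen_compl⟩) ⟨hxU, hx⟩
    have hWU' : W ≤ U := hWU.trans inf_le_left
    let L := Fintype.linearCombination Γ(X, W) fun i => Groth.PicAux.res E hWU' (s i)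
    have hL : Function.Bijective L := hs W hWU'
    let b : Module.Basis (Fin n) Γ(X, W) Γ(E, W) := .ofEquivFun (LinearEquiv.ofBijective L hL).symm
    refine ⟨⟨W, hW⟩, hxW, n, b, isKoszulRegularSeq_of_eq_top ?_⟩
    have htop : J.ideal ⟨W, hW⟩ = ⊤ := by
      by_contra hne
      obtain ⟨M, hM, hle⟩ := Ideal.exists_le_maximal _ hne
      let z := hW.fromSpec ⟨M, hM.isPrime⟩
      have hzW : z ∈ W := hW.range_fromSpec.subset ⟨_, rfl⟩
      refine (hWU hzW).2 ((J.coe_support_inter ⟨W, hW⟩).ge ⟨?_, hzW⟩).1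
      refine (Set.ext_iff.1 (hW.fromSpec_image_zeroLocus (J.ideal ⟨W, hW⟩ : Set Γ(X, W))) z).1
        ⟨⟨M, hM.isPrime⟩, hle, rfl⟩ |>.1
    rw [Ideal.ofList]
    refine Eq.trans (congrArg Ideal.span ?_) ((ideal_eq_span u hJ hW b).symm.trans htop)
    exact Set.ext fun y => List.mem_ofFn

variable {f : X' ⟶ X}

/-- The conormal sheaf of a blow-up in the bundle is the kernel of the tautological quotient. -/
theorem nonempty_conormal_iso_kernel
    (hE : FlatMod.IsFinLocFree E) (u : E ⟶ Coh.structureModule X)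
    (hu : ∀ x : X, ∃ U : X.affineOpens, x ∈ U.1 ∧
      ∃ (n : ℕ) (b : Module.Basis (Fin n) Γ(X, U.1) (E.val.obj (op U.1))),
        LCI.IsKoszulRegularSeq Γ(X, U.1) (List.ofFn fun k => ((u.val.app (op U.1)).hom (b k) : Γ(X, U.1))))
    (hJ : ∀ U : X.affineOpens, J.ideal U = @Ideal.span Γ(X, U.1) _
      (Set.range fun s : E.val.obj (op U.1) => ((u.val.app (op U.1)).hom s : Γ(X, U.1))))
    (π : P ⟶ X) (O1 : P.Modules) (q : (Scheme.Modules.pullback π).obj E ⟶ O1)
    (hP : KRR.IsProjBundle π E O1 q) (hf : BlowUp.IsBlowUp f J)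
    (j : X' ⟶ P) (hjπ : j ≫ π = f)
    (e : (Scheme.Modules.pullback j).obj O1 ≅ ClSub.idealMod (BlowUp.exceptional f J))
    (hcomp : (Scheme.Modules.pullbackCongr hjπ).inv.app E ≫ (Scheme.Modules.pullbackComp j π).inv.app E ≫
        (Scheme.Modules.pullback j).map q ≫ e.hom ≫ ClSub.idealModι (BlowUp.exceptional f J) =
      (Scheme.Modules.pullback f).map u ≫
        ((Scheme.Modules.pullbackPushforwardAdjunction f).homEquiv _ _).symm
          (SheafOfModules.unitToPushforwardObjUnit f.toRingCatSheafHom)) :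
    Nonempty (Omega.conormal j ≅ kernel ((Scheme.Modules.pullback j).map q)) := by
  have : IsClosedImmersion j := (toBundle_regular hE u hu hJ π O1 q hP hf j hjπ e hcomp).1
  have : E.IsQuasicoherent := KTheory.LocFree.isQCoh hE
  obtain ⟨B⟩ := exists_bdl E
  let qB := ((Scheme.Modules.pullbackPushforwardAdjunction B.p).homEquiv E B.O1).symm B.φ
  have hBinv : PicF.IsInvertible B.O1 :=
    Groth.RelTw.isInvertible B.lam B.hO1 (Groth.SymAlg.isGenDegOne B.hj)
  have hqB : Epi qB := epi_adjoint B.hj B.hO1 B.hφ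
  have := hP.epi
  have hO1i : PicF.IsInvertible O1 := Groth.LocFree.isInvertible_iff_ofRank_one.2 hP.invertible
  have : O1.IsQuasicoherent := Groth.PicAux.isQCoh_of_isInvertible hO1i
  obtain ⟨r₁, hr₁, huniq₁⟩ := existsUnique_toProjBdl B.hj B.hP B.hO1 B.hφ hO1i q
  obtain ⟨r₂, hr₂, -⟩ := hP.univ B.P B.p B.O1 (Groth.LocFree.isInvertible_iff_ofRank_one.1 hBinv) qB hqB
  have h12 : r₁ ≫ r₂ = 𝟙 P :=
    (hP.univ P π O1 hP.invertible q hP.epi).unique (classifies_comp (q := qB) hr₁ hr₂) (classifies_self π O1 q)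
  have h21 : r₂ ≫ r₁ = 𝟙 B.P :=
    (existsUnique_toProjBdl B.hj B.hP B.hO1 B.hφ hBinv qB).unique
      (classifies_comp (q := q) hr₂ hr₁) (classifies_self B.p B.O1 qB)
  have : IsIso r₁ := ⟨r₂, h12, h21⟩
  let s : (Scheme.Modules.pullback f).obj E ⟶ ClSub.idealMod (BlowUp.exceptional f J) :=
    (Scheme.Modules.pullbackCongr hjπ).inv.app E ≫ (Scheme.Modules.pullbackComp j π).inv.app E ≫
      (Scheme.Modules.pullback j).map q ≫ e.hom
  obtain ⟨hc, τ, heq⟩ := classifies_comp (π' := B.p) (q' := qB) (⟨hjπ, e, rfl⟩ : Classifies π O1 q f _ s j) hr₁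
  have hfits := fits_of_iso B.hj B.hP B.hO1 B.hφ s hc τ heq
  obtain ⟨hc₁, τ₁, heq₁⟩ := hr₁
  have hfits₁ := fits_of_iso B.hj B.hP B.hO1 B.hφ q hc₁ τ₁ heq₁
  have hσ : IsSystem u (linData s) := by
    intro V x
    have h1 : s ≫ ClSub.idealModι (BlowUp.exceptional f J) = (Scheme.Modules.pullback f).map u ≫
        ((Scheme.Modules.pullbackPushforwardAdjunction f).homEquiv _ _).symm
          (SheafOfModules.unitToPushforwardObjUnit f.toRingCatSheafHom) := by
      rw [← hcomp]; simp [s]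
    have h2 := congr(($h1).app (f ⁻¹ᵁ V) (pullSec f E x))
    change (ClSub.idealModι (BlowUp.exceptional f J)).app (f ⁻¹ᵁ V) (s.app (f ⁻¹ᵁ V) (pullSec f E x)) =
      (((Scheme.Modules.pullbackPushforwardAdjunction f).homEquiv _ _).symm _).app (f ⁻¹ᵁ V)
        (((Scheme.Modules.pullback f).map u).app (f ⁻¹ᵁ V) (pullSec f E x)) at h2
    rw [pullSec_map, symm_app_pullSec] at h2
    exact h2
  subst hjπ
  -- the section of the dual of the kernel
  let c : (Scheme.Modules.pullback π).obj E ⟶ Coh.structureModule P := (Scheme.Modules.pullback π).map u ≫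
    ((Scheme.Modules.pullbackPushforwardAdjunction π).homEquiv _ _).symm
      (SheafOfModules.unitToPushforwardObjUnit π.toRingCatSheafHom)
  let canj : (Scheme.Modules.pullback j).obj (Coh.structureModule P) ⟶ Coh.structureModule X' :=
    ((Scheme.Modules.pullbackPushforwardAdjunction j).homEquiv _ _).symm
      (SheafOfModules.unitToPushforwardObjUnit j.toRingCatSheafHom)
  have hc_pull : ∀ (U : X.Opens) (y : Γ(E, U)),
      OmegaSh.fnSect P (π ⁻¹ᵁ U) (c.app (π ⁻¹ᵁ U) (pullSec π E y)) =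
        (π.app U).hom (OmegaSh.fnSect X U (u.app U y)) := by
    intro U y
    change OmegaSh.fnSect P (π ⁻¹ᵁ U) ((((Scheme.Modules.pullbackPushforwardAdjunction π).homEquiv _ _).symm
      _).app (π ⁻¹ᵁ U) (((Scheme.Modules.pullback π).map u).app (π ⁻¹ᵁ U) (pullSec π E y))) = _
    rw [pullSec_map, symm_app_pullSec]
    rfl
  have hA : (Scheme.Modules.pullback j).map c ≫ canj =
      (Scheme.Modules.pullback j).map q ≫ e.hom ≫ ClSub.idealModι (BlowUp.exceptional (j ≫ π) J) := by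
    refine (cancel_epi ((Scheme.Modules.pullbackComp j π).inv.app E)).1 (RelTw.hom_ext_pullSec _ fun U y => ?_)
    have h3 := hσ U y
    change canj.app (j ⁻¹ᵁ π ⁻¹ᵁ U) (((Scheme.Modules.pullback j).map c).app (j ⁻¹ᵁ π ⁻¹ᵁ U)
      (((Scheme.Modules.pullbackComp j π).inv.app E).app (j ⁻¹ᵁ π ⁻¹ᵁ U) (pullSec (j ≫ π) E y))) =
      (ClSub.idealModι _).app (j ⁻¹ᵁ π ⁻¹ᵁ U) (e.hom.app (j ⁻¹ᵁ π ⁻¹ᵁ U)
        (((Scheme.Modules.pullback j).map q).app (j ⁻¹ᵁ π ⁻¹ᵁ U)
          (((Scheme.Modules.pullbackComp j π).inv.app E).app (j ⁻¹ᵁ π ⁻¹ᵁ U) (pullSec (j ≫ π) E y))))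
    rw [RelTw.pullbackComp_inv_pullSec, pullSec_map, symm_app_pullSec, pullSec_map]
    rw [linData_app] at h3
    refine Eq.trans ?_ (h3.symm.trans ?_)
    · exact congrArg (j.app (π ⁻¹ᵁ U)).hom (hc_pull U y)
    · refine congrArg (OmegaSh.idealSect _ _) ?_
      change e.hom.app (j ⁻¹ᵁ π ⁻¹ᵁ U) (((Scheme.Modules.pullback j).map q).app (j ⁻¹ᵁ π ⁻¹ᵁ U)
        (((Scheme.Modules.pullbackComp j π).inv.app E).app (j ⁻¹ᵁ π ⁻¹ᵁ U) (pullSec (j ≫ π) E y))) = _
      rw [RelTw.pullbackComp_inv_pullSec, pullSec_map]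
  let sN : kernel q ⟶ Coh.structureModule P := kernel.ι q ≫ c
  have hsN : ∀ (W : P.Opens) (n : Γ(kernel q, W)), (j.app W).hom (OmegaSh.fnSect P W (sN.app W n)) = 0 := by
    intro W n
    have h := congr(($hA).app (j ⁻¹ᵁ W) (pullSec j _ ((kernel.ι q).app W n)))
    change canj.app (j ⁻¹ᵁ W) (((Scheme.Modules.pullback j).map c).app (j ⁻¹ᵁ W) (pullSec j _ ((kernel.ι q).app W n))) =
      (ClSub.idealModι _).app (j ⁻¹ᵁ W) (e.hom.app (j ⁻¹ᵁ W)
        (((Scheme.Modules.pullback j).map q).app (j ⁻¹ᵁ W) (pullSec j _ ((kernel.ι q).app W n)))) at h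
    rw [pullSec_map, symm_app_pullSec, pullSec_map] at h
    refine Eq.trans h ?_
    rw [show q.app W ((kernel.ι q).app W n) = 0 from congr(($(kernel.condition q)).app W n),
      show pullSec j O1 (0 : Γ(O1, W)) = 0 from map_zero _, map_zero, map_zero]
    rfl
  have : ((Scheme.Modules.pullback π).obj E).IsQuasicoherent := Groth.QCohMod.isQCoh_pullback_obj π E
  have : (kernel q).IsQuasicoherent := inferInstance
  have hz : sN ≫ ClSub.toSubscheme j.ker = 0 := by
    refine Scheme.Modules.hom_ext _ _ fun W => AddCommGrpCat.ext fun n => ?_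
    refine Groth.CohTwo.eq_of_local _ _ _ fun z hz => ?_
    obtain ⟨W', hW', hzW', hle₀⟩ := exists_isAffineOpen_mem_and_subset (x := z) (U := W) hz
    have hle : W' ≤ W := hle₀
    refine ⟨W', hle, hzW', ?_⟩
    change PicAux.res _ hle ((sN ≫ ClSub.toSubscheme j.ker).app W n) = PicAux.res _ hle 0
    rw [PicAux.res_zero, ← PicAux.app_res]
    change (ClSub.toSubscheme j.ker).app W' (sN.app W' (PicAux.res _ hle n)) = 0
    have h : (OmegaSh.fnSect P W' (sN.app W' (PicAux.res _ hle n))) ∈ j.ker.ideal ⟨W', hW'⟩ := by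
      rw [Scheme.Hom.ker_apply, RingHom.mem_ker]
      exact hsN W' _
    rw [← Scheme.IdealSheafData.ker_subschemeι_app, RingHom.mem_ker] at h
    exact h
  let t : kernel q ⟶ ClSub.idealMod j.ker := kernel.lift _ sN hz
  have ht : ∀ (W : P.Opens) (n : Γ(kernel q, W)),
      OmegaSh.idealSect j.ker W (t.app W n) = OmegaSh.fnSect P W (sN.app W n) := fun W n =>
    congr(OmegaSh.fnSect P W (($(kernel.lift_ι (ClSub.toSubscheme j.ker) sN hz)).app W n))
  -- the pieces
  have hpiece : ∀ z : P, ∃ (V : P.Opens) (m : ℕ) (b : Module.Basis (Fin (m + 1)) Γ(P, V)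
      Γ((Scheme.Modules.pullback π).obj E, V)) (x : Fin m → Γ(P, V)), z ∈ V ∧ IsAffineOpen V ∧
      (∀ l, q.app V (b l.succ) = x l • q.app V (b 0)) ∧ Gen O1 V (q.app V (b 0)) ∧
      (CAlgX.IsH1Regular fun l => OmegaSh.fnSect P V (c.app V (x l • b 0 - b l.succ))) ∧
      RingHom.ker (j.app V).hom = Ideal.span (Set.range fun l => OmegaSh.fnSect P V (c.app V (x l • b 0 - b l.succ))) := by
    intro z
    obtain ⟨⟨U, hU⟩, hzU, n, b₀, hK⟩ := hu (π z)
    let b : Module.Basis (Fin n) Γ(X, U) Γ(E, U) := b₀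
    have hwU : B.p (r₁ z) ∈ U := by rw [← Scheme.Hom.comp_apply, hc₁]; exact hzU
    obtain ⟨y, hy⟩ := exists_emb_eq (chart := B.chart) U hU hwU
    obtain ⟨x₀, hx₀⟩ := Groth.SymAlg.exists_notMem B.hj hU y
    obtain ⟨k, hk⟩ : ∃ k, jel B.alg B.j U (b k) ∉ y.asHomogeneousIdeal := by
      by_contra! hall
      refine hx₀ ?_
      have key : ∀ e : Γ(E, U), Groth.SymAlg.liftSec B.alg.toQCAlg B.j U
          (SymmetricAlgebra.ι _ _ e) ∈ y.asHomogeneousIdeal.toIdeal := fun e => by
        rw [← b.sum_repr e, map_sum, map_sum]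
        refine Ideal.sum_mem _ fun k _ => ?_
        rw [map_smul, Algebra.smul_def, map_mul, Groth.SymAlg.liftSec_ι]
        exact Ideal.mul_mem_left _ _ (hall k)
      have := key x₀
      rw [Groth.SymAlg.liftSec_ι] at this
      exact this
    have hzD : r₁ z ∈ B.D U hU (b k) := ⟨y, hk, hy⟩
    obtain ⟨m, rfl⟩ : ∃ m, n = m + 1 := ⟨n - 1, by have := k.2; omega⟩
    let σp : Equiv.Perm (Fin (m + 1)) := Equiv.swap 0 k
    let b' := b.reindex σp
    have hb'0 : b' 0 = b k := (b.reindex_apply σp 0).trans (congrArg b (by simp [σp]))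
    let a : Fin (m + 1) → Γ(X, U) := fun i => OmegaSh.fnSect X U (u.app U (b' i))
    have ha : ∀ i, OmegaSh.fnSect X U (u.app U (b' i)) = a i := fun _ => rfl
    have hK' : LCI.IsKoszulRegularSeq Γ(X, U) (List.ofFn a) := by
      have : a = (fun i => OmegaSh.fnSect X U (u.app U (b i))) ∘ σp.symm := funext fun i =>
        congrArg (fun y => OmegaSh.fnSect X U (u.app U y)) (b.reindex_apply σp i)
      rw [this]
      exact (Groth.KoszulLCI.isKoszulRegularSeq_perm (Equiv.Perm.ofFn_comp_perm σp.symm _)).2 hK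
    obtain ⟨-, -, hker⟩ := ker_piece_of_fits hU hf hσ hfits b' ha (ideal_eq_span u hJ hU b') hK'
    let D := B.D U hU (b' 0)
    let V := r₁ ⁻¹ᵁ D
    have hV : IsAffineOpen V := (isAffineOpen_dPlus B.hj U hU (b' 0)).preimage_of_isIso r₁
    have hVπ : V ≤ π ⁻¹ᵁ U := (r₁.preimage_mono (dPlus_le U hU (b' 0))).trans (pre_le_of_comp r₁ hc₁ U).le
    obtain ⟨eV, heV⟩ := exists_basis_pull π E hU hV hVπ b'
    let ψ : MvPolynomial (Fin m) Γ(X, U) →+* Γ(P, V) := (r₁.app D).hom.comp (polyToPiece B hU b')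
    let x : Fin m → Γ(P, V) := fun l => (r₁.app D).hom (coordRatio B hU (b' 0) (b' l.succ))
    have hψX : ∀ l, ψ (MvPolynomial.X l) = x l := fun l =>
      congrArg (r₁.app D).hom (MvPolynomial.eval₂Hom_X' _ _ l)
    have hψC : ∀ y, ψ (MvPolynomial.C y) = (π.appLE U V hVπ).hom y := fun y => by
      show (r₁.app D).hom (polyToPiece B hU b' (MvPolynomial.C y)) = _
      rw [polyToPiece_C, Scheme.Hom.app_eq_appLE]
      exact rAp_base r₁ hc₁ (dPlus_le U hU (b' 0)) le_rfl y
    have hq : ∀ i, q.app V (eV i) = PicAux.res O1 hVπ ((linData q).app U (b' i)) := fun i => by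
      rw [heV, PicAux.app_res, linData_app]
    have hG : (linData q).genLoc U (b' 0) = V := (hfits₁.pre U hU (b' 0)).symm
    have hgen : Gen O1 V (q.app V (eV 0)) := by
      rw [hq]
      have := ((linData q).gen_genLoc U (b' 0)).res hG.ge
      rwa [PicAux.res_res] at this
    have hx : ∀ l, q.app V (eV l.succ) = x l • q.app V (eV 0) := fun l => by
      rw [hq, hq]
      have h1 := congrArg (PicAux.res O1 hG.ge) ((linData q).ratio_smul U (b' 0) (b' l.succ))
      rw [PicAux.res_smul, PicAux.res_res, PicAux.res_res] at h1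
      refine h1.symm.trans (congrArg (· • _) ?_)
      have h2 : x l = rAp r₁ le_rfl (coordRatio B hU (b' 0) (b' l.succ)) := by
        rw [rAp, ← Scheme.Hom.app_eq_appLE]
      rw [h2, ← resX_rAp r₁ (hfits₁.pre U hU (b' 0)).ge hG.ge]
      refine congrArg _ ?_
      rw [rAp, hfits₁.fn U hU (b' 0), coordRatio, (linData q).rho_coord, (linData q).fracHom_jfrac,
        (linData q).algHom_j]
    have hce : ∀ i, OmegaSh.fnSect P V (c.app V (eV i)) = (π.appLE U V hVπ).hom (a i) := fun i => by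
      rw [heV, PicAux.app_res]
      change PicAux.resX P hVπ (OmegaSh.fnSect P (π ⁻¹ᵁ U) (c.app (π ⁻¹ᵁ U) (pullSec π E (b' i)))) = _
      rw [hc_pull]
      rfl
    have hrel : ∀ l, OmegaSh.fnSect P V (c.app V (x l • eV 0 - eV l.succ)) =
        ψ (Groth.LocCohTransform.BlowupTor.rel a l) := fun l => by
      rw [map_sub, map_sub, Scheme.Modules.Hom.app_smul]
      change x l * OmegaSh.fnSect P V (c.app V (eV 0)) - OmegaSh.fnSect P V (c.app V (eV l.succ)) = _
      rw [hce, hce, Groth.LocCohTransform.BlowupTor.rel, map_sub, map_mul, hψC, hψC, hψX, mul_comm]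
    have hH1 : CAlgX.IsH1Regular fun l => OmegaSh.fnSect P V (c.app V (x l • eV 0 - eV l.succ)) := by
      simp only [hrel]
      have h1 := isKoszulRegularSeq_of_ringEquiv ((RingEquiv.ofBijective _ (bijective_polyToPiece B hU b')).trans
        (asIso (r₁.app D)).commRingCatIsoToRingEquiv) (isKoszulRegularSeq_rel a hK')
      rw [List.map_ofFn] at h1
      have hk := isH1Regular_of_isKoszulRegularSeq h1
      have h := cast_transfer (fun c g => CAlgX.IsH1Regular (c := c) g) List.length_ofFn.symm _ hk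
      convert h using 2 with l
      rw [List.get_ofFn]
      rfl
    refine ⟨V, m, eV, x, show r₁ z ∈ D by rw [show D = B.D U hU (b k) from congrArg (B.D U hU) hb'0]; exact hzD,
      hV, hx, hgen, hH1, ?_⟩
    have h2 : RingHom.ker ((j ≫ r₁).app D).hom = (RingHom.ker (j.app V).hom).comap (r₁.app D).hom :=
      (RingHom.comap_ker (j.app V).hom (r₁.app D).hom).symm
    rw [← Ideal.map_comap_of_surjective (r₁.app D).hom
      (ConcreteCategory.bijective_of_isIso (r₁.app D)).2 (RingHom.ker (j.app V).hom), ← h2, hker,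
      Ideal.map_ofList, List.map_map, List.map_ofFn, Ideal.ofList]
    refine congrArg Ideal.span ?_
    ext w
    simp only [Set.mem_ofPred_eq, List.mem_ofFn, Set.mem_range, Function.comp_apply, hrel]
    rfl
  choose V m b x hzV hV hx hgen hH1 hker using hpiece
  have hN := fun z => exists_basis_kernel q (b z) (x z) (hx z) (hgen z)
  choose BN hBN using hN
  have hts : ∀ z l, OmegaSh.idealSect j.ker (V z) (t.app (V z) (BN z l)) =
      OmegaSh.fnSect P (V z) (c.app (V z) (x z l • b z 0 - b z l.succ)) := fun z l => by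
    rw [ht, ← hBN]
    rfl
  have : Epi t := Groth.OmegaSheaf.epi_of_affine_cover t fun z => ⟨V z, hV z, hzV z, by
    intro k
    have hk : OmegaSh.idealSect j.ker (V z) k ∈
        Ideal.span (Set.range fun l => OmegaSh.idealSect j.ker (V z) (t.app (V z) (BN z l))) := by
      simp only [hts]
      rw [← hker z]
      have := Groth.OmegaSheaf.idealSect_mem j.ker ⟨V z, hV z⟩ k
      rwa [Scheme.Hom.ker_apply] at this
    obtain ⟨d, hd⟩ := (Submodule.mem_span_range_iff_exists_fun _).1 hk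
    refine ⟨∑ l, d l • BN z l, Groth.OmegaSheaf.idealSect_injective _ _ ?_⟩
    rw [map_sum, map_sum, ← hd]
    exact Finset.sum_congr rfl fun l _ => by rw [Scheme.Modules.Hom.app_smul, Groth.OmegaSheaf.idealSect_smul]; rfl⟩
  have hcov : ⨆ z : X', j ⁻¹ᵁ V (j z) = ⊤ := eq_top_iff.2 fun z _ => Opens.mem_iSup.2 ⟨z, hzV (j z)⟩
  have : ((Scheme.Modules.pullback j).obj (kernel q)).IsQuasicoherent := Groth.QCohMod.isQCoh_pullback_obj j _
  have : IsIso ((Scheme.Modules.pullback j).map t) := by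
    refine Groth.Ega2Proj.isIso_of_affine_cover _ (fun z : X' => j ⁻¹ᵁ V (j z))
      (fun z => (hV (j z)).preimage j) hcov fun z => ?_
    refine pullback_map_app_bijective (kernel q) j t (hV (j z)) (BN (j z)) ?_
    simp only [hts]
    exact hH1 (j z)
  let φ : (Scheme.Modules.pullback j).obj (kernel q) ⟶ kernel ((Scheme.Modules.pullback j).map q) :=
    kernel.lift _ ((Scheme.Modules.pullback j).map (kernel.ι q))
      (by rw [← Functor.map_comp, kernel.condition, Functor.map_zero])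
  have : ((Scheme.Modules.pullback j).obj ((Scheme.Modules.pullback π).obj E)).IsQuasicoherent :=
    Groth.QCohMod.isQCoh_pullback_obj j _
  have : ((Scheme.Modules.pullback j).obj O1).IsQuasicoherent := Groth.QCohMod.isQCoh_pullback_obj j _
  have : IsIso φ := Groth.Ega2Proj.isIso_of_affine_cover _ (fun z : X' => j ⁻¹ᵁ V (j z))
    (fun z => (hV (j z)).preimage j) hcov fun z =>
      bijective_kernel_comparison j q (hV (j z)) ((hV (j z)).preimage j) (b (j z)) (x (j z)) (hx (j z))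
        (hgen (j z)) φ (kernel.lift_ι _ _ _)
  exact ⟨(asIso ((Scheme.Modules.pullback j).map t)).symm ≪≫ asIso φ⟩

end Groth.BlowUpLCI
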