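import Groth.Agent.BlowUpLCI.BundleIso
import Groth.Agent.KoszulLCI.ConormalPullBasis
import Groth.Agent.FlatMorOne.FlatLocusInjective

/-!
# Kernels of maps onto line bundles on a standard piece
-/

set_option autoImplicit false

universe u

open CategoryTheory CategoryTheory.Limits AlgebraicGeometry Opposite TopologicalSpace

set_option backward.isDefEq.respectTransparency.types false
set_option linter.style.haveILetI false

noncomputable section

namespace Groth.BlowUpLCI

open Groth.PicAux Groth.QCohMod Groth.RelTw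

/-- The kernel of a form which is a multiple of its value at the first basis vector. -/
theorem exists_basis_ker {R M L : Type*} [CommRing R] [AddCommGroup M] [Module R M] [AddCommGroup L]
    [Module R L] {t : ℕ} (e : Module.Basis (Fin (t + 1)) R M) (q : M →ₗ[R] L) (x : Fin t → R)
    (hx : ∀ l, q (e l.succ) = x l • q (e 0)) (hinj : ∀ c : R, c • q (e 0) = 0 → c = 0) :
    ∃ B : Module.Basis (Fin t) R (LinearMap.ker q), ∀ l, (B l : M) = x l • e 0 - e l.succ := by
  let ν : Fin t → LinearMap.ker q := fun l => ⟨x l • e 0 - e l.succ, by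
    rw [LinearMap.mem_ker, map_sub, map_smul, hx, sub_self]⟩
  have hli : LinearIndependent R ν := by
    rw [Fintype.linearIndependent_iff]
    intro g hg i
    have h : ∑ l, g l • (x l • e 0 - e l.succ) = 0 := by
      simpa [ν] using congrArg Subtype.val hg
    have := congrArg (fun m => e.repr m i.succ) h
    simpa [Finsupp.single_apply, (Fin.succ_ne_zero i).symm] using this
  refine ⟨.mk hli fun m _ => ?_, fun l => congrArg Subtype.val (Module.Basis.mk_apply hli _ l)⟩
  let c : Fin t → R := fun l => e.repr m.1 l.succ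
  let d := e.repr m.1 0 + ∑ l, c l * x l
  have hd : m.1 + ∑ l, c l • (x l • e 0 - e l.succ) = d • e 0 := by
    conv_lhs => arg 1; rw [← e.sum_repr m.1]
    rw [Fin.sum_univ_succ]
    simp only [smul_sub, smul_smul, Finset.sum_sub_distrib, d, c, add_smul, Finset.sum_smul]
    abel
  have h0 : d = 0 := by
    refine hinj d ?_
    rw [← map_smul, ← hd, map_add, LinearMap.mem_ker.1 m.2, zero_add, map_sum]
    exact Finset.sum_eq_zero fun l _ => by
      rw [map_smul, LinearMap.mem_ker.1 (ν l).2, smul_zero]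
  have hm : m = -∑ l, c l • ν l := by
    refine Subtype.ext ?_
    simpa [ν, eq_neg_iff_add_eq_zero, h0] using hd
  rw [hm]
  exact neg_mem (sum_mem fun l _ => Submodule.smul_mem _ _ (Submodule.subset_span ⟨l, rfl⟩))

variable {X Y : Scheme.{u}}

/-- The sections of a kernel with the basis of the kernel on sections. -/
theorem exists_basis_kernel {M L : X.Modules} (q : M ⟶ L) {V : X.Opens} {t : ℕ}
    (e : Module.Basis (Fin (t + 1)) Γ(X, V) Γ(M, V)) (x : Fin t → Γ(X, V))
    (hx : ∀ l, q.app V (e l.succ) = x l • q.app V (e 0)) (hg : Gen L V (q.app V (e 0))) :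
    ∃ B : Module.Basis (Fin t) Γ(X, V) Γ(kernel q, V),
      ∀ l, (kernel.ι q).app V (B l) = x l • e 0 - e l.succ := by
  obtain ⟨B₀, hB₀⟩ := exists_basis_ker e (appₗ q V) x hx fun c hc => by
    refine hg.smul_inj le_rfl (r' := 0) ?_
    rw [PicAux.res_self, zero_smul]
    exact hc
  let L : Γ(kernel q, V) →ₗ[Γ(X, V)] LinearMap.ker (appₗ q V) :=
    (appₗ (kernel.ι q) V).codRestrict _ fun n =>
      LinearMap.mem_ker.2 congr(($(kernel.condition q)).app V n)
  have hL : Function.Bijective L := by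
    refine ⟨fun a b h => OmegaSh.ι_app_injective _ _ (congrArg Subtype.val h), fun m => ?_⟩
    exact ⟨OmegaSh.kerLift q V m.1 m.2, Subtype.ext (OmegaSh.ι_kerLift _ _ _ _)⟩
  refine ⟨B₀.map (LinearEquiv.ofBijective L hL).symm, fun l => ?_⟩
  rw [Module.Basis.map_apply, ← hB₀]
  exact congrArg Subtype.val ((LinearEquiv.ofBijective L hL).apply_symm_apply (B₀ l))

/-- A basis pulled back. -/
theorem exists_basis_pull (f : Y ⟶ X) (M : X.Modules) [M.IsQuasicoherent] {U : X.Opens}
    (hU : IsAffineOpen U) {V : Y.Opens} (hV : IsAffineOpen V) (h : V ≤ f ⁻¹ᵁ U) {ι : Type*}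
    (b : Module.Basis ι Γ(X, U) Γ(M, U)) :
    ∃ e : Module.Basis ι Γ(Y, V) Γ((Scheme.Modules.pullback f).obj M, V),
      ∀ i, e i = PicAux.res _ h (pullSec f M (b i)) := by
  let _ := sectionsAlg f h
  refine ⟨(Algebra.TensorProduct.basis Γ(Y, V) b).map (pullSecEquiv f M h hU hV), fun i => ?_⟩
  show pullSecTensor f M h (Algebra.TensorProduct.basis _ b i) = _
  rw [Algebra.TensorProduct.basis_apply, pullSecTensor_tmul, one_smul]
  rfl

/-- The pullback of a kernel onto a line bundle. -/
theorem bijective_kernel_comparison (j : Y ⟶ X) {M L : X.Modules} [M.IsQuasicoherent] (q : M ⟶ L)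
    [(kernel q).IsQuasicoherent] {V : X.Opens} (hV : IsAffineOpen V) (hjV : IsAffineOpen (j ⁻¹ᵁ V)) {t : ℕ}
    (e : Module.Basis (Fin (t + 1)) Γ(X, V) Γ(M, V)) (x : Fin t → Γ(X, V))
    (hx : ∀ l, q.app V (e l.succ) = x l • q.app V (e 0)) (hg : Gen L V (q.app V (e 0)))
    (φ : (Scheme.Modules.pullback j).obj (kernel q) ⟶ kernel ((Scheme.Modules.pullback j).map q))
    (hφ : φ ≫ kernel.ι _ = (Scheme.Modules.pullback j).map (kernel.ι q)) :
    Function.Bijective (φ.app (j ⁻¹ᵁ V)) := by
  let q' := (Scheme.Modules.pullback j).map q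
  obtain ⟨B, hB⟩ := exists_basis_kernel q e x hx hg
  obtain ⟨e', he'⟩ := exists_basis_pull j M hV hjV le_rfl e
  obtain ⟨B', hB'⟩ := exists_basis_pull j (kernel q) hV hjV le_rfl B
  have he'' : ∀ i, e' i = pullSec j M (e i) := fun i => (he' i).trans (PicAux.res_self _ _)
  have hx' : ∀ l, q'.app (j ⁻¹ᵁ V) (e' l.succ) = (j.app V).hom (x l) • q'.app (j ⁻¹ᵁ V) (e' 0) := fun l => by
    rw [he'', he'', pullSec_map, pullSec_map, hx, pullSec_smul]
  have hg' : Gen _ (j ⁻¹ᵁ V) (q'.app (j ⁻¹ᵁ V) (e' 0)) := by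
    rw [he'', pullSec_map]
    exact hg.pull j
  obtain ⟨B'', hB''⟩ := exists_basis_kernel q' e' (fun l => (j.app V).hom (x l)) hx' hg'
  have key : ∀ l, φ.app (j ⁻¹ᵁ V) (B' l) = B'' l := fun l => by
    refine OmegaSh.ι_app_injective _ _ ?_
    rw [hB'', hB' l, PicAux.res_self]
    have h := congr(($hφ).app (j ⁻¹ᵁ V) (pullSec j (kernel q) (B l)))
    refine h.trans ?_
    rw [pullSec_map, hB, he'', he'', ← pullSec_smul]
    exact map_sub _ _ _
  have hlin : appₗ φ (j ⁻¹ᵁ V) = (B'.equiv B'' (Equiv.refl _)).toLinearMap := B'.ext fun l => by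
    rw [LinearEquiv.coe_coe, Module.Basis.equiv_apply, Equiv.refl_apply]
    exact key l
  show Function.Bijective (appₗ φ (j ⁻¹ᵁ V))
  rw [hlin]
  exact (B'.equiv B'' (Equiv.refl _)).bijective

end Groth.BlowUpLCI
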