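import Groth.Agent.BlowUpLCI.Algebra
import Groth.Agent.KoszulLCI.Immersion
import Groth.Agent.BlowUpBasics.AtlasOf
import Groth.Agent.BlowUpBasics.Global
import Groth.Agent.BlowUpBasics.Universal
import Groth.Agent.Agf.BlowUpExceptional
import Groth.Prelude.Def_Mor2

/-!
# The blow-up along a regular closed immersion is a local complete intersection morphism
-/

set_option autoImplicit false

universe u

open CategoryTheory CategoryTheory.Limits AlgebraicGeometry
open Groth.BlowUpBasics Groth.KoszulLCI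

namespace Groth.BlowUpLCI

theorem morLCI_of_isBlowUp_regular {A : Type u} [CommRing A] {c : ℕ} (f : Fin c → A)
    (hf : RingTheory.Sequence.IsWeaklyRegular A (List.ofFn f)) {P : Scheme.{u}}
    (b : P ⟶ Spec (CommRingCat.of A))
    (hb : BlowUp.IsBlowUp b (sheafOf (Ideal.span (Set.range f)))) : MorLCI b := by
  set I := Ideal.span (Set.range f) with hI
  obtain ⟨T⟩ := nonempty_atlas_of_isBlowUp hb
  let a : Fin c → I := fun k => ⟨f k, Ideal.subset_span ⟨k, rfl⟩⟩
  have hcov : ∀ x : P, ∃ k, x ∈ Set.range (T.j (a k)) := by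
    intro x
    obtain ⟨a', y, rfl⟩ := T.covers x
    obtain ⟨k, hk⟩ : ∃ k, frac I (a' : A) (f k) (a k).2 ∉ y.asIdeal := by
      by_contra! hall
      exact Groth.Agf.BlowUpExceptional.frac_mem_false f I rfl _ a'.2 _ y.isPrime.ne_top
        (fun k => (a k).2) hall
    exact ⟨k, T.overlap (a k) a' y hk⟩
  let 𝒰 : P.OpenCover := Scheme.Cover.mkOfCovers (Fin c) _ (fun k => T.j (a k))
    (fun x => let ⟨k, hk⟩ := hcov x; ⟨k, hk⟩) (fun k => T.isOpenImmersion (a k))
  rw [IsZariskiLocalAtSource.iff_of_openCover (P := MorLCI) 𝒰]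
  intro k
  change MorLCI (T.j (a k) ≫ b)
  rw [T.fac (a k)]
  change MorLCI (Spec.map (CommRingCat.ofHom (algebraMap A (BlowUp.affineAlgebra A I (f k)))))
  rw [HasRingHomProperty.Spec_iff (P := MorLCI)]
  exact ringLCI_algebraMap.mpr (isLCI_affineAlgebra f hf k)

/-- The ideal of a sheaf on an affine open. -/
theorem comap_fromSpec {X : Scheme.{u}} (K : X.IdealSheafData) {U : X.Opens} (hU : IsAffineOpen U) :
    K.comap hU.fromSpec = sheafOf (A := Γ(X, U)) (K.ideal ⟨U, hU⟩) := by
  refine Scheme.IdealSheafData.ext_of_isAffine ?_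
  rw [sheafOf_ideal_top, ideal_comap hU.fromSpec K ⟨U, hU⟩ ⟨⊤, isAffineOpen_top _⟩ hU.fromSpec_preimage_self.ge]
  congr 2
  rw [Scheme.Hom.appLE, hU.fromSpec_app_self, Category.assoc, ← Functor.map_comp]
  erw [CategoryTheory.Functor.map_id, Category.comp_id]
  rfl

theorem morLCI_of_isBlowUp {Y X X' : Scheme.{u}} (i : Y ⟶ X) (hi : Mor2.IsRegularClosedImmersion i)
    (b : X' ⟶ X) (hb : BlowUp.IsBlowUp b i.ker) : MorLCI b := by
  have := hi.1
  choose U hU hz rs hreg hideal using hi.2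
  let U₀ : X.Opens := ⟨(Set.range i)ᶜ, i.isClosedEmbedding.isClosed_range.isOpen_compl⟩
  let ι : Type u := Y ⊕ PUnit.{u + 1}
  let Us : ι → X.Opens := Sum.elim U fun _ => U₀
  have hsup : ⨆ k, Us k = ⊤ := by
    refine top_unique fun x _ => TopologicalSpace.Opens.mem_iSup.mpr ?_
    by_cases hx : x ∈ Set.range i
    · obtain ⟨z, rfl⟩ := hx
      exact ⟨Sum.inl z, hz z⟩
    · exact ⟨Sum.inr PUnit.unit, hx⟩
  rw [IsZariskiLocalAtTarget.iff_of_iSup_eq_top (P := MorLCI) Us hsup]
  rintro (z | _)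
  · change MorLCI (b ∣_ U z)
    have hP : IsPullback (pullback.fst b (hU z).fromSpec) (pullback.snd b (hU z).fromSpec) b
        (hU z).fromSpec := IsPullback.of_hasPullback _ _
    have hb' : BlowUp.IsBlowUp (pullback.snd b (hU z).fromSpec) (i.ker.comap (hU z).fromSpec) :=
      isBlowUp_of_isPullback hb hP.flip
    rw [comap_fromSpec, hideal z, Ideal.ofList, ← List.ofFn_get (rs z)] at hb'
    simp only [List.mem_ofFn] at hb'
    have h := morLCI_of_isBlowUp_regular (rs z).get
      (by rw [List.ofFn_get]; exact (hreg z).toIsWeaklyRegular) _ hb'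
    have hsq : IsPullback (b ∣_ U z) (b ⁻¹ᵁ U z).ι (U z).ι b := isPullback_morphismRestrict b (U z)
    let e := (hU z).isoSpec
    have hsq' : IsPullback ((b ∣_ U z) ≫ e.hom) (b ⁻¹ᵁ U z).ι (hU z).fromSpec b :=
      hsq.of_iso (Iso.refl _) e (Iso.refl _) (Iso.refl _) (by simp) (by simp)
        (by simp [e, ← IsAffineOpen.isoSpec_inv_ι]) (by simp)
    rw [← MorLCI.cancel_right_of_respectsIso _ e.hom, ← hsq'.flip.isoPullback_hom_snd,
      MorLCI.cancel_left_of_respectsIso]
    exact h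
  · change MorLCI (b ∣_ U₀)
    have : IsIso (b ∣_ U₀) := by
      refine isIso_morphismRestrict hb U₀ ?_
      rw [Scheme.Hom.support_ker, i.isClosedEmbedding.isClosed_range.closure_eq]
      exact disjoint_compl_right
    exact morLCI_of_smooth _

end Groth.BlowUpLCI
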