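import Groth.Agent.BlowUpLCI.BundleChart
import Groth.Agent.BlowUpLCI.Scheme
import Groth.Agent.PicAux.EffCartierLine
import Groth.Agent.RelVA.Emb
import Mathlib.AlgebraicGeometry.Morphisms.ClosedImmersion

/-!
# The linear system of the exceptional ideal on a blow-up along a Koszul-regular ideal
-/

universe u

open CategoryTheory CategoryTheory.Limits AlgebraicGeometry Opposite TopologicalSpace
open scoped HomogeneousIdeal

set_option backward.isDefEq.respectTransparency.types false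
set_option linter.style.haveILetI false

noncomputable section

namespace Groth.BlowUpLCI

open Groth.PicAux Groth.RelTw Groth.RelVA Groth.BlowUpBasics Groth.KoszulLCI

variable {X X' : Scheme.{u}} {f : X' ⟶ X} {J : X.IdealSheafData}
  {U : X.Opens} (hU : IsAffineOpen U)

/-- A chart of a blow-up over an affine open. -/
structure Chart (f : X' ⟶ X) {U : X.Opens} (I : Ideal Γ(X, U)) (a : Γ(X, U)) where
  W : X'.Opens
  affine : IsAffineOpen W
  le : W ≤ f ⁻¹ᵁ U
  ε : CommRingCat.of (BlowUp.affineAlgebra Γ(X, U) I a) ≅ Γ(X', W)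
  ε_algebraMap : CommRingCat.ofHom (algebraMap Γ(X, U) _) ≫ ε.hom = f.appLE U W le

/-- The charts at generators cover a blow-up of an affine scheme. -/
theorem exists_mem_range_atlas {A : Type u} [CommRing A] {P : Scheme.{u}} {n : ℕ} (a : Fin n → A)
    {b : P ⟶ Spec (CommRingCat.of A)} (T : Atlas (Ideal.span (Set.range a)) b) (y : P) :
    ∃ k, y ∈ Set.range (T.j ⟨a k, Ideal.subset_span ⟨k, rfl⟩⟩) := by
  obtain ⟨a', w, rfl⟩ := T.covers y
  have hmem : ∀ k, a k ∈ Ideal.span (Set.range a) := fun k => Ideal.subset_span ⟨k, rfl⟩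
  obtain ⟨k, hk⟩ : ∃ k, frac (Ideal.span (Set.range a)) (a' : A) (a k) (hmem k) ∉ w.asIdeal := by
    by_contra! hall
    exact Groth.Agf.BlowUpExceptional.frac_mem_false a _ rfl _ a'.2 _ w.isPrime.ne_top hmem hall
  exact ⟨k, T.overlap ⟨a k, hmem k⟩ a' w hk⟩

/-- A function invertible on a chart moves the point into the neighbouring chart. -/
theorem mem_range_of_mem_basicOpen {A : Type u} [CommRing A] {P Q : Scheme.{u}} {I : Ideal A}
    {b : P ⟶ Spec (CommRingCat.of A)} (T : Atlas I b) (g : P ⟶ Q) [IsOpenImmersion g] (a a' : I)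
    (z : Q) (hz : z ∈ Q.basicOpen (((T.j a' ≫ g).appIso ⊤).inv.hom
      ((Scheme.ΓSpecIso (CommRingCat.of (BlowUp.affineAlgebra A I (a' : A)))).inv.hom
        (frac I (a' : A) (a : A) a.2)))) : z ∈ (T.j a ≫ g) ''ᵁ ⊤ := by
  obtain ⟨y, -, rfl⟩ := Q.basicOpen_le _ hz
  have hy : y ∈ (T.j a' ≫ g) ⁻¹ᵁ Q.basicOpen (((T.j a' ≫ g).appIso ⊤).inv.hom
      ((Scheme.ΓSpecIso (CommRingCat.of (BlowUp.affineAlgebra A I (a' : A)))).inv.hom
        (frac I (a' : A) (a : A) a.2))) := hz
  rw [Scheme.preimage_basicOpen, Scheme.Hom.appIso_inv_app_apply, Scheme.basicOpen_res,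
    basicOpen_eq_of_affine] at hy
  obtain ⟨v, hv⟩ := T.overlap a a' y hy.2
  refine ⟨v, trivial, ?_⟩
  change (T.j a ≫ g) v = (T.j a' ≫ g) y
  rw [Scheme.Hom.comp_apply, hv, Scheme.Hom.comp_apply]

/-- A morphism to an affine open given by a ring map. -/
theorem appLE_SpecMap_fromSpec {X : Scheme.{u}} {U : X.Opens} (hU : IsAffineOpen U) {S : Type u} [CommRing S]
    (φ : Γ(X, U) →+* S) (h : (⊤ : (Spec (CommRingCat.of S)).Opens) ≤
      (Spec.map (CommRingCat.ofHom φ) ≫ hU.fromSpec) ⁻¹ᵁ U) :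
    (Spec.map (CommRingCat.ofHom φ) ≫ hU.fromSpec).appLE U ⊤ h =
      CommRingCat.ofHom φ ≫ (Scheme.ΓSpecIso (CommRingCat.of S)).inv := by
  have h1 : hU.fromSpec.appLE U ⊤ hU.fromSpec_preimage_self.ge = (Scheme.ΓSpecIso Γ(X, U)).inv := by
    rw [Scheme.Hom.appLE, hU.fromSpec_app_self, Category.assoc, ← Functor.map_comp]
    erw [CategoryTheory.Functor.map_id, Category.comp_id]
  rw [← Scheme.Hom.appLE_comp_appLE (Spec.map (CommRingCat.ofHom φ)) hU.fromSpec U ⊤ ⊤
      hU.fromSpec_preimage_self.ge (le_preimage_top _ _), h1]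
  exact congrArg CommRingCat.ofHom (phi_Spec φ)

include hU in
/-- The charts at generators cover the preimage of the affine open. -/
theorem exists_charts (hf : BlowUp.IsBlowUp f J) {n : ℕ} (a : Fin n → Γ(X, U))
    (hJ : J.ideal ⟨U, hU⟩ = Ideal.span (Set.range a)) :
    ∃ C : ∀ k, Chart f (Ideal.span (Set.range a)) (a k),
      (∀ z, f z ∈ U → ∃ k, z ∈ (C k).W) ∧
      ∀ (k m : Fin n) (z : X'), z ∈ X'.basicOpen ((C m).ε.hom.hom
        (frac (Ideal.span (Set.range a)) (a m) (a k) (Ideal.subset_span ⟨k, rfl⟩))) → z ∈ (C k).W := by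
  set I := Ideal.span (Set.range a) with hI
  have hP : IsPullback (pullback.fst f hU.fromSpec) (pullback.snd f hU.fromSpec) f hU.fromSpec :=
    IsPullback.of_hasPullback _ _
  have hb' : BlowUp.IsBlowUp (pullback.snd f hU.fromSpec) (J.comap hU.fromSpec) :=
    isBlowUp_of_isPullback hf hP.flip
  rw [comap_fromSpec, hJ] at hb'
  obtain ⟨T⟩ := nonempty_atlas_of_isBlowUp hb'
  let c : Fin n → I := fun k => ⟨a k, Ideal.subset_span ⟨k, rfl⟩⟩
  let jc := fun k => T.j (c k) ≫ pullback.fst f hU.fromSpec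
  have hjc : ∀ k, jc k ≫ f = chartBase I (a k) ≫ hU.fromSpec := fun k => by
    rw [Category.assoc, pullback.condition, ← Category.assoc, T.fac (c k)]
  have hle : ∀ k, jc k ''ᵁ ⊤ ≤ f ⁻¹ᵁ U := by
    rintro k _ ⟨y, -, rfl⟩
    show f (jc k y) ∈ U
    rw [← Scheme.Hom.comp_apply, hjc, Scheme.Hom.comp_apply, ← SetLike.mem_coe, ← hU.range_fromSpec]
    exact ⟨_, rfl⟩
  have htop : ∀ (k : Fin n), (⊤ : (Spec (CommRingCat.of (BlowUp.affineAlgebra Γ(X, U) I (a k)))).Opens) ≤
      (jc k ≫ f) ⁻¹ᵁ U := fun k y _ => hle k ⟨y, trivial, rfl⟩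
  refine ⟨fun k =>
    { W := jc k ''ᵁ ⊤
      affine := (isAffineOpen_top _).image_of_isOpenImmersion _
      le := hle k
      ε := (Scheme.ΓSpecIso (CommRingCat.of (BlowUp.affineAlgebra Γ(X, U) I (a k)))).symm ≪≫
        ((jc k).appIso ⊤).symm
      ε_algebraMap := ?_ }, fun z hz => ?_, fun k m z hz => ?_⟩
  · rw [← cancel_mono ((jc k).appIso ⊤).hom]
    simp only [Iso.trans_hom, Iso.symm_hom, Category.assoc, Iso.inv_hom_id, Category.comp_id]
    rw [Scheme.Hom.appIso_hom', Scheme.Hom.appLE_comp_appLE]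
    have e : (jc k ≫ f).appLE U ⊤ (htop k) =
        (chartBase I (a k) ≫ hU.fromSpec).appLE U ⊤ (by rw [← hjc]; exact htop k) := by
      congr 1; exact hjc k
    refine Eq.trans ?_ e.symm
    exact (appLE_SpecMap_fromSpec hU (algebraMap Γ(X, U) (BlowUp.affineAlgebra Γ(X, U) I (a k))) _).symm
  · obtain ⟨y, hy⟩ : z ∈ Set.range (pullback.fst f hU.fromSpec) := by
      rw [Scheme.Pullback.range_fst, hU.range_fromSpec]; exact hz
    obtain ⟨k, v, hv⟩ := exists_mem_range_atlas a T y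
    refine ⟨k, v, trivial, ?_⟩
    change (T.j (c k) ≫ pullback.fst f hU.fromSpec) v = z
    rw [Scheme.Hom.comp_apply, hv, hy]
  · exact mem_range_of_mem_basicOpen T (pullback.fst f hU.fromSpec) (c k) (c m) z hz

variable {E : X.Modules} (u : E ⟶ Coh.structureModule X)
  (σ : LinData f E (ClSub.idealMod (BlowUp.exceptional f J)))

/-- `σ` is the linear system of `u`. -/
def IsSystem : Prop := ∀ (V : X.Opens) (x : Γ(E, V)),
  OmegaSh.idealSect (BlowUp.exceptional f J) (f ⁻¹ᵁ V) (σ.app V x) =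
    (f.app V).hom (OmegaSh.fnSect X V (u.app V x))

variable {u σ}

theorem idealSect_res_app (hσ : IsSystem u σ) {W : X'.Opens} (h : W ≤ f ⁻¹ᵁ U) (x : Γ(E, U)) :
    OmegaSh.idealSect (BlowUp.exceptional f J) W (res _ h (σ.app U x)) =
      (f.appLE U W h).hom (OmegaSh.fnSect X U (u.app U x)) := by
  rw [idealSect_res', hσ]
  rfl

variable {n : ℕ} {e : Fin n → Γ(E, U)} {a : Fin n → Γ(X, U)}

theorem chart_alg_apply {I : Ideal Γ(X, U)} {x : Γ(X, U)} (C : Chart f I x) (y : Γ(X, U)) :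
    C.ε.hom.hom (algebraMap _ _ y) = (f.appLE U C.W C.le).hom y :=
  congr(($(C.ε_algebraMap)).hom y)

theorem chart_mem_nonZeroDivisors {I : Ideal Γ(X, U)} {x : Γ(X, U)} (C : Chart f I x) :
    (f.appLE U C.W C.le).hom x ∈ nonZeroDivisors Γ(X', C.W) := by
  rw [← chart_alg_apply C x]
  exact map_mem_nonZeroDivisors_of_flat (RingHom.Flat.of_bijective
    C.ε.commRingCatIsoToRingEquiv.bijective) algebraMap_self_mem_nonZeroDivisors

include hU in
theorem gen_chart (hσ : IsSystem u σ) (hJ : J.ideal ⟨U, hU⟩ = Ideal.span (Set.range a))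
    (ha : ∀ k, OmegaSh.fnSect X U (u.app U (e k)) = a k) {k : Fin n}
    (C : Chart f (Ideal.span (Set.range a)) (a k)) :
    Gen _ C.W (res _ C.le (σ.app U (e k))) := by
  refine gen_idealMod ⟨C.W, C.affine⟩ ?_ ?_
  · rw [idealSect_res_app hσ, ha]
    exact Groth.Divisors.isNzdSec_of_mem C.affine (chart_mem_nonZeroDivisors C)
  · rw [idealSect_res_app hσ, ha, ideal_comap f J ⟨U, hU⟩ ⟨C.W, C.affine⟩ C.le, hJ,
      ← C.ε_algebraMap, CommRingCat.hom_comp, ← Ideal.map_map]
    change ((Ideal.span (Set.range a)).map (algebraMap _ _)).map C.ε.hom.hom = _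
    rw [map_eq_span (Ideal.subset_span ⟨k, rfl⟩ : a k ∈ Ideal.span (Set.range a)), Ideal.map_span,
      Set.image_singleton]
    rfl

theorem chart_frac_smul (hσ : IsSystem u σ)
    (ha : ∀ k, OmegaSh.fnSect X U (u.app U (e k)) = a k) {k : Fin n}
    (C : Chart f (Ideal.span (Set.range a)) (a k)) (l : Fin n) :
    C.ε.hom.hom (frac (Ideal.span (Set.range a)) (a k) (a l) (Ideal.subset_span ⟨l, rfl⟩)) •
      res _ C.le (σ.app U (e k)) = res _ C.le (σ.app U (e l)) := by
  refine Groth.OmegaSheaf.idealSect_injective _ _ ?_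
  rw [Groth.OmegaSheaf.idealSect_smul, idealSect_res_app hσ, idealSect_res_app hσ, ha, ha,
    ← chart_alg_apply C, ← chart_alg_apply C, ← map_mul, frac_mul_algebraMap]

include hU in
theorem genLoc_eq_chart (hσ : IsSystem u σ) (hJ : J.ideal ⟨U, hU⟩ = Ideal.span (Set.range a))
    (ha : ∀ k, OmegaSh.fnSect X U (u.app U (e k)) = a k)
    (C : ∀ k, Chart f (Ideal.span (Set.range a)) (a k))
    (hcov : ∀ z, f z ∈ U → ∃ k, z ∈ (C k).W)
    (hover : ∀ (k m : Fin n) (z : X'), z ∈ X'.basicOpen ((C m).ε.hom.hom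
      (frac (Ideal.span (Set.range a)) (a m) (a k) (Ideal.subset_span ⟨k, rfl⟩))) → z ∈ (C k).W)
    (k : Fin n) : σ.genLoc U (e k) = (C k).W := by
  refine le_antisymm (fun z hz => ?_) (σ.le_genLoc (C k).le (gen_chart hU hσ hJ ha (C k)))
  obtain ⟨m, hm⟩ := hcov z (σ.genLoc_le U (e k) hz)
  refine hover k m z ?_
  set q := (C m).ε.hom.hom (frac (Ideal.span (Set.range a)) (a m) (a k) (Ideal.subset_span ⟨k, rfl⟩))
  let V := (C m).W ⊓ σ.genLoc U (e k)
  have hVU : V ≤ f ⁻¹ᵁ U := inf_le_left.trans (C m).le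
  have h1 : resX X' (inf_le_left : V ≤ (C m).W) q • res _ hVU (σ.app U (e m)) = res _ hVU (σ.app U (e k)) := by
    have := congrArg (res _ (inf_le_left : V ≤ (C m).W)) (chart_frac_smul hσ ha (C m) k)
    rwa [PicAux.res_smul, PicAux.res_res, PicAux.res_res] at this
  have h2 : Gen _ V (resX X' (inf_le_left : V ≤ (C m).W) q • res _ hVU (σ.app U (e m))) := by
    rw [h1]
    have := (σ.gen_genLoc U (e k)).res (inf_le_right : V ≤ σ.genLoc U (e k))
    rwa [PicAux.res_res] at this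
  have h3 : Gen _ V (res _ hVU (σ.app U (e m))) := by
    have := (gen_chart hU hσ hJ ha (C m)).res (inf_le_left : V ≤ (C m).W)
    rwa [PicAux.res_res] at this
  have h4 : IsUnit (resX X' (inf_le_left : V ≤ (C m).W) q) := h3.isUnit_of_smul h2
  rw [Scheme.mem_basicOpen X' q z hm]
  have := h4.map (X'.presheaf.germ V z ⟨hm, hz⟩).hom
  rwa [show (X'.presheaf.germ V z ⟨hm, hz⟩).hom (resX X' (inf_le_left : V ≤ (C m).W) q) =
    (X'.presheaf.germ (C m).W z hm).hom q from TopCat.Presheaf.germ_res_apply _ _ _ _ _] at this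

theorem app_eq_of_preimage_eq {P : Scheme.{u}} (r : X' ⟶ P) {D : P.Opens} {W : X'.Opens} (hW : r ⁻¹ᵁ D = W) :
    (Function.Surjective (rAp r hW.ge) → Function.Surjective (r.app D).hom) ∧
      RingHom.ker (r.app D).hom = RingHom.ker (rAp r hW.ge) ∧ (IsAffineOpen W → IsAffineOpen (r ⁻¹ᵁ D)) := by
  subst hW
  rw [rAp, Scheme.Hom.app_eq_appLE]
  exact ⟨id, rfl, id⟩

theorem isClosedImmersion_restrict_of_surjective {P : Scheme.{u}} (r : X' ⟶ P) {D : P.Opens}
    (hD : IsAffineOpen D) (h : IsAffineOpen (r ⁻¹ᵁ D)) (hs : Function.Surjective (r.app D).hom) :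
    IsClosedImmersion (r ∣_ D) := by
  have : IsAffine (D : Scheme.{u}) := hD
  rw [HasAffineProperty.iff_of_isAffine (P := @IsClosedImmersion)]
  refine ⟨h, ?_⟩
  rw [morphismRestrict_appTop]
  have h1 : Function.Surjective (r.app (D.ι ''ᵁ ⊤)).hom := by
    rw [show D.ι ''ᵁ ⊤ = D from Scheme.Opens.ι_image_top D]
    exact hs
  exact ((ConcreteCategory.bijective_of_isIso
    (X'.presheaf.map (eqToHom (image_morphismRestrict_preimage r D ⊤)).op)).2).comp h1

variable [E.IsQuasicoherent] {B : Bdl E} {r : X' ⟶ B.P} {t : ℕ}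

include hU in
/-- The functions on a standard piece vanishing on the blow-up are spanned by the relations. -/
theorem ker_piece_of_fits (hf : BlowUp.IsBlowUp f J) (hσ : IsSystem u σ) (hr : Fits σ B.hj B.chart r)
    (b : Module.Basis (Fin (t + 1)) Γ(X, U) Γ(E, U)) {a : Fin (t + 1) → Γ(X, U)}
    (ha : ∀ k, OmegaSh.fnSect X U (u.app U (b k)) = a k)
    (hJ : J.ideal ⟨U, hU⟩ = Ideal.span (Set.range a))
    (hK : LCI.IsKoszulRegularSeq Γ(X, U) (List.ofFn a)) :
    IsAffineOpen (r ⁻¹ᵁ B.D U hU (b 0)) ∧ Function.Surjective (r.app (B.D U hU (b 0))).hom ∧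
      RingHom.ker (r.app (B.D U hU (b 0))).hom =
        Ideal.ofList ((List.ofFn (Groth.LocCohTransform.BlowupTor.rel a)).map (polyToPiece B hU b)) := by
  obtain ⟨C, hcov, hover⟩ := exists_charts hU hf a hJ
  have hG : σ.genLoc U (b 0) = (C 0).W := genLoc_eq_chart hU hσ hJ ha C hcov hover 0
  have hW : r ⁻¹ᵁ B.D U hU (b 0) = (C 0).W := (hr.pre U hU (b 0)).trans hG
  let e₀ : MvPolynomial (Fin t) Γ(X, U) ≃+* Γ(B.P, B.D U hU (b 0)) :=
    RingEquiv.ofBijective _ (bijective_polyToPiece B hU b)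
  have hkey : (rAp r hW.ge).comp (polyToPiece B hU b) =
      (C 0).ε.hom.hom.comp (Groth.LocCohTransform.BlowupTor.pres a).toRingHom := by
    refine MvPolynomial.ringHom_ext (fun y => ?_) fun l => ?_
    · rw [RingHom.comp_apply, polyToPiece_C]
      refine (rAp_base r hr.comp (dPlus_le U hU (b 0)) hW.ge y).trans ?_
      rw [RingHom.comp_apply]
      exact (chart_alg_apply (C 0) y).symm.trans
        (congrArg (C 0).ε.hom.hom ((Groth.LocCohTransform.BlowupTor.pres a).commutes y).symm)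
    · rw [RingHom.comp_apply,
        show polyToPiece B hU b (MvPolynomial.X l) = coordRatio B hU (b 0) (b l.succ) from
          MvPolynomial.eval₂Hom_X' _ _ l]
      have h1 : rAp r hW.ge (coordRatio B hU (b 0) (b l.succ)) =
          resX X' hG.ge (σ.ratio U (b 0) (b l.succ)) := by
        rw [← resX_rAp r (hr.pre U hU (b 0)).ge hG.ge]
        refine congrArg _ ?_
        rw [rAp, hr.fn U hU (b 0), coordRatio, σ.rho_coord, σ.fracHom_jfrac, σ.algHom_j]
      have h2 : resX X' hG.ge (σ.ratio U (b 0) (b l.succ)) =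
          (C 0).ε.hom.hom (frac (Ideal.span (Set.range a)) (a 0) (a l.succ)
            (Ideal.subset_span ⟨l.succ, rfl⟩)) := by
        refine (gen_chart hU hσ hJ ha (C 0)).smul_inj le_rfl ?_
        rw [PicAux.res_self, chart_frac_smul hσ ha (C 0) l.succ]
        have := congrArg (res _ hG.ge) (σ.ratio_smul U (b 0) (b l.succ))
        rwa [PicAux.res_smul, PicAux.res_res, PicAux.res_res] at this
      rw [h1, h2, RingHom.comp_apply]
      refine congrArg (C 0).ε.hom.hom ?_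
      exact Subtype.ext (by simp [Groth.LocCohTransform.BlowupTor.pres])
  have hsurjW : Function.Surjective (rAp r hW.ge) := by
    intro y
    obtain ⟨z, hz⟩ := (ConcreteCategory.bijective_of_isIso (C 0).ε.hom).2 y
    obtain ⟨P, hP⟩ := pres_surjective' a z
    exact ⟨polyToPiece B hU b P, (RingHom.congr_fun hkey P).trans ((congrArg (C 0).ε.hom.hom hP).trans hz)⟩
  obtain ⟨hsurj, hker, haff⟩ := app_eq_of_preimage_eq r hW
  refine ⟨haff (C 0).affine, hsurj hsurjW, ?_⟩
  rw [hker, ← Ideal.map_ofList, ← ker_pres a hK,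
    ← Ideal.map_comap_of_surjective e₀.toRingHom e₀.surjective (RingHom.ker (rAp r hW.ge)), RingHom.comap_ker,
    show (rAp r hW.ge).comp e₀.toRingHom = _ from hkey,
    RingHom.ker_comp_of_injective _ (ConcreteCategory.bijective_of_isIso (C 0).ε.hom).1]
  rfl

include hU in
/-- On a standard piece the morphism of the linear system is cut out by the relations of the blow-up. -/
theorem piece_of_fits (hf : BlowUp.IsBlowUp f J) (hσ : IsSystem u σ) (hr : Fits σ B.hj B.chart r)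
    (b : Module.Basis (Fin (t + 1)) Γ(X, U) Γ(E, U)) {a : Fin (t + 1) → Γ(X, U)}
    (ha : ∀ k, OmegaSh.fnSect X U (u.app U (b k)) = a k)
    (hJ : J.ideal ⟨U, hU⟩ = Ideal.span (Set.range a))
    (hK : LCI.IsKoszulRegularSeq Γ(X, U) (List.ofFn a)) :
    IsClosedImmersion (r ∣_ B.D U hU (b 0)) ∧
      ∃ rs : List Γ(B.P, B.D U hU (b 0)), rs.length = t ∧ LCI.IsKoszulRegularSeq Γ(B.P, B.D U hU (b 0)) rs ∧
        RingHom.ker (r.app (B.D U hU (b 0))).hom = Ideal.ofList rs := by
  obtain ⟨haff, hsurj, hker⟩ := ker_piece_of_fits hU hf hσ hr b ha hJ hK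
  exact ⟨isClosedImmersion_restrict_of_surjective r (isAffineOpen_dPlus B.hj U hU (b 0)) haff hsurj,
    _, by simp, isKoszulRegularSeq_of_ringEquiv (RingEquiv.ofBijective _ (bijective_polyToPiece B hU b))
      (isKoszulRegularSeq_rel a hK), hker⟩

end Groth.BlowUpLCI
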