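import Groth.Agent.BlowUpLCI.BundleImm
import Groth.Agent.LocFree.Basic
import Groth.Agent.LocFree.Rank
import Groth.Prelude.Def_KRR
import Groth.Prelude.Def_RegImm

/-!
# A blow-up in a Koszul-regular ideal inside the projective bundle
-/

universe u

open CategoryTheory CategoryTheory.Limits AlgebraicGeometry Opposite TopologicalSpace
open scoped HomogeneousIdeal

set_option backward.isDefEq.respectTransparency.types false
set_option linter.style.haveILetI false

noncomputable section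

namespace Groth.BlowUpLCI

open Groth.PicAux Groth.RelTw Groth.RelVA

theorem pullbackId_pullSec {Z : Scheme.{u}} (M : Z.Modules) (U : Z.Opens) (m : Γ(M, U)) :
    ((Scheme.Modules.pullbackId Z).hom.app M).app U (pullSec (𝟙 Z) M m) = m := by
  have h := unit_conjugateEquiv .id (Scheme.Modules.pullbackPushforwardAdjunction (𝟙 Z))
    (Scheme.Modules.pullbackId Z).hom M
  rw [Scheme.Modules.conjugateEquiv_pullbackId_hom] at h
  exact (congr((Scheme.Modules.Hom.app $h U) m)).symm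

variable {X P P' T : Scheme.{u}} {E : X.Modules}

/-- `h` classifies the quotient `s`. -/
def Classifies (π : P ⟶ X) (O1 : P.Modules) (q : (Scheme.Modules.pullback π).obj E ⟶ O1)
    (g : T ⟶ X) (L : T.Modules) (s : (Scheme.Modules.pullback g).obj E ⟶ L) (h : T ⟶ P) : Prop :=
  ∃ (hg : h ≫ π = g) (e : (Scheme.Modules.pullback h).obj O1 ≅ L),
    (Scheme.Modules.pullbackCongr hg).inv.app E ≫ (Scheme.Modules.pullbackComp h π).inv.app E ≫
      (Scheme.Modules.pullback h).map q ≫ e.hom = s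

theorem classifies_app {π : P ⟶ X} {O1 : P.Modules} {q : (Scheme.Modules.pullback π).obj E ⟶ O1}
    (h : T ⟶ P) {L : T.Modules} (e : (Scheme.Modules.pullback h).obj O1 ≅ L) (U : X.Opens) (x : Γ(E, U)) :
    ((Scheme.Modules.pullbackCongr (rfl : h ≫ π = h ≫ π)).inv.app E ≫
      (Scheme.Modules.pullbackComp h π).inv.app E ≫ (Scheme.Modules.pullback h).map q ≫ e.hom).app
        ((h ≫ π) ⁻¹ᵁ U) (pullSec (h ≫ π) E x) =
      e.hom.app (h ⁻¹ᵁ π ⁻¹ᵁ U) (pullSec h O1 (q.app (π ⁻¹ᵁ U) (pullSec π E x))) := by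
  rw [show (Scheme.Modules.pullbackCongr (rfl : h ≫ π = h ≫ π)).inv.app E = 𝟙 _ from rfl, Category.id_comp]
  change e.hom.app (h ⁻¹ᵁ π ⁻¹ᵁ U) (((Scheme.Modules.pullback h).map _).app (h ⁻¹ᵁ π ⁻¹ᵁ U)
    (((Scheme.Modules.pullbackComp h π).inv.app E).app (h ⁻¹ᵁ π ⁻¹ᵁ U) (pullSec (h ≫ π) E x))) = _
  rw [pullbackComp_inv_pullSec, pullSec_map]

theorem classifies_self (π : P ⟶ X) (O1 : P.Modules) (q : (Scheme.Modules.pullback π).obj E ⟶ O1) :
    Classifies π O1 q π O1 q (𝟙 P) := by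
  refine ⟨Category.id_comp π, (Scheme.Modules.pullbackId P).app O1, ?_⟩
  have key : ∀ (g : P ⟶ X) (hg : 𝟙 P ≫ π = g) (q' : (Scheme.Modules.pullback g).obj E ⟶ O1),
      (∀ U x, q'.app (g ⁻¹ᵁ U) (pullSec g E x) = res O1 (pre_le_of_comp (𝟙 P) hg U).ge
        (q.app (π ⁻¹ᵁ U) (pullSec π E (U := U) x))) →
      (Scheme.Modules.pullbackCongr hg).inv.app E ≫ (Scheme.Modules.pullbackComp (𝟙 P) π).inv.app E ≫
        (Scheme.Modules.pullback (𝟙 P)).map q ≫ ((Scheme.Modules.pullbackId P).app O1).hom = q' := by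
    intro g hg q' hq'
    subst hg
    refine hom_ext_pullSec _ fun U x => ?_
    rw [classifies_app (𝟙 P) ((Scheme.Modules.pullbackId P).app O1), hq']
    exact (pullbackId_pullSec O1 _ _).trans (PicAux.res_self _ _).symm
  exact key π (Category.id_comp π) q fun U x => (PicAux.res_self _ _).symm

theorem classifies_comp {π : P ⟶ X} {O1 : P.Modules} {q : (Scheme.Modules.pullback π).obj E ⟶ O1}
    {π' : P' ⟶ X} {O1' : P'.Modules} {q' : (Scheme.Modules.pullback π').obj E ⟶ O1'}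
    {g : T ⟶ X} {L : T.Modules} {s : (Scheme.Modules.pullback g).obj E ⟶ L} {h : T ⟶ P} {r : P ⟶ P'}
    (h₁ : Classifies π O1 q g L s h) (h₂ : Classifies π' O1' q' π O1 q r) :
    Classifies π' O1' q' g L s (h ≫ r) := by
  obtain ⟨rfl, e, rfl⟩ := h₁
  obtain ⟨rfl, τ, hτ⟩ := h₂
  let e' : (Scheme.Modules.pullback (h ≫ r)).obj O1' ≅ L :=
    (Scheme.Modules.pullbackComp h r).symm.app O1' ≪≫ (Scheme.Modules.pullback h).mapIso τ ≪≫ e
  refine ⟨Category.assoc h r π', e', ?_⟩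
  have key : ∀ (g : T ⟶ X) (hg : (h ≫ r) ≫ π' = g) (s' : (Scheme.Modules.pullback g).obj E ⟶ L),
      (∀ U x, s'.app (g ⁻¹ᵁ U) (pullSec g E x) = res L (pre_le_of_comp (h ≫ r) hg U).ge
        (e.hom.app (h ⁻¹ᵁ r ⁻¹ᵁ π' ⁻¹ᵁ U) (pullSec h O1 (q.app ((r ≫ π') ⁻¹ᵁ U) (pullSec (r ≫ π') E (U := U) x))))) →
      (Scheme.Modules.pullbackCongr hg).inv.app E ≫ (Scheme.Modules.pullbackComp (h ≫ r) π').inv.app E ≫
        (Scheme.Modules.pullback (h ≫ r)).map q' ≫ e'.hom = s' := by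
    intro g hg s' hs'
    subst hg
    refine hom_ext_pullSec _ fun U x => ?_
    rw [classifies_app (h ≫ r) e', hs', ← hτ, classifies_app r τ]
    refine Eq.trans ?_ (PicAux.res_self _ _).symm
    change e.hom.app _ (((Scheme.Modules.pullback h).map τ.hom).app _
      (((Scheme.Modules.pullbackComp h r).inv.app O1').app (h ⁻¹ᵁ r ⁻¹ᵁ π' ⁻¹ᵁ U) (pullSec (h ≫ r) O1' (U := π' ⁻¹ᵁ U) _))) = _
    rw [pullbackComp_inv_pullSec, pullSec_map]
  refine key _ (Category.assoc h r π') _ fun U x => ?_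
  exact (classifies_app h e U x).trans (PicAux.res_self _ _).symm

/-- A chart of a closed immersion followed by an isomorphism gives one of the closed immersion. -/
theorem exists_chart_of_comp_iso {Z P P' : Scheme.{u}} (j : Z ⟶ P) (φ : P ⟶ P') [IsIso φ] [IsClosedImmersion j]
    (V : P'.affineOpens) (z : Z) (hV : (j ≫ φ) z ∈ V.1) (rs : List Γ(P', V.1))
    (hrs : LCI.IsKoszulRegularSeq Γ(P', V.1) rs)
    (hker : RingHom.ker ((j ≫ φ).app V.1).hom = Ideal.ofList rs) :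
    ∃ U : P.affineOpens, j z ∈ U.1 ∧ IsClosedImmersion (j ∣_ U.1) ∧ ∃ rs' : List Γ(P, U.1),
      rs'.length = rs.length ∧ LCI.IsKoszulRegularSeq Γ(P, U.1) rs' ∧
      RingHom.ker (j.app U.1).hom = Ideal.ofList rs' := by
  refine ⟨⟨φ ⁻¹ᵁ V.1, V.2.preimage_of_isIso φ⟩, hV, IsZariskiLocalAtTarget.restrict ‹_› _,
    rs.map (φ.app V.1).hom, by simp, ?_, ?_⟩
  · exact Groth.KoszulLCI.isKoszulRegularSeq_of_ringEquiv (asIso (φ.app V.1)).commRingCatIsoToRingEquiv hrs
  · change RingHom.ker (j.app (φ ⁻¹ᵁ V.1)).hom = _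
    have h2 : Ideal.ofList rs = (RingHom.ker (j.app (φ ⁻¹ᵁ V.1)).hom).comap (φ.app V.1).hom :=
      hker.symm.trans (RingHom.comap_ker (j.app (φ ⁻¹ᵁ V.1)).hom (φ.app V.1).hom).symm
    refine Eq.trans ?_ (Ideal.map_ofList (φ.app V.1).hom rs)
    rw [h2, Ideal.map_comap_of_surjective _ (ConcreteCategory.bijective_of_isIso (φ.app V.1)).2]

variable {X' : Scheme.{u}} {f : X' ⟶ X} {J : X.IdealSheafData}

/-- The morphism of a blow-up in the image of a Koszul-regular `u` to the bundle. -/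
theorem toBundle_regular
    (hE : FlatMod.IsFinLocFree E) (u : E ⟶ Coh.structureModule X)
    (hu : ∀ x : X, ∃ U : X.affineOpens, x ∈ U.1 ∧
      ∃ (n : ℕ) (b : Module.Basis (Fin n) Γ(X, U.1) (E.val.obj (op U.1))),
        LCI.IsKoszulRegularSeq Γ(X, U.1) (List.ofFn fun k => ((u.val.app (op U.1)).hom (b k) : Γ(X, U.1))))
    (hJ : ∀ U : X.affineOpens, J.ideal U = @Ideal.span Γ(X, U.1) _ (Set.range fun s : E.val.obj (op U.1) => ((u.val.app (op U.1)).hom s : Γ(X, U.1))))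
    {P : Scheme.{u}} (π : P ⟶ X) (O1 : P.Modules) (q : (Scheme.Modules.pullback π).obj E ⟶ O1)
    (hP : KRR.IsProjBundle π E O1 q) (hf : BlowUp.IsBlowUp f J)
    (j : X' ⟶ P) (hjπ : j ≫ π = f)
    (e : (Scheme.Modules.pullback j).obj O1 ≅ ClSub.idealMod (BlowUp.exceptional f J))
    (hcomp : (Scheme.Modules.pullbackCongr hjπ).inv.app E ≫ (Scheme.Modules.pullbackComp j π).inv.app E ≫
        (Scheme.Modules.pullback j).map q ≫ e.hom ≫ ClSub.idealModι (BlowUp.exceptional f J) =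
      (Scheme.Modules.pullback f).map u ≫
        ((Scheme.Modules.pullbackPushforwardAdjunction f).homEquiv _ _).symm
          (SheafOfModules.unitToPushforwardObjUnit f.toRingCatSheafHom)) :
    IsClosedImmersion j ∧ RegImm.IsRegularImmersion .koszul j ∧
      ∀ c : ℕ, FlatMod.IsFinLocFreeOfRank c E → RegImm.IsRegularImmersionOfCodim .koszul (c - 1) j := by
  have : E.IsQuasicoherent := KTheory.LocFree.isQCoh hE
  obtain ⟨B⟩ := exists_bdl E
  let qB := ((Scheme.Modules.pullbackPushforwardAdjunction B.p).homEquiv E B.O1).symm B.φ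
  have hBinv : PicF.IsInvertible B.O1 :=
    Groth.RelTw.isInvertible B.lam B.hO1 (Groth.SymAlg.isGenDegOne B.hj)
  have hqB : Epi qB := epi_adjoint B.hj B.hO1 B.hφ
  have := hP.epi
  obtain ⟨r₁, hr₁, huniq₁⟩ := existsUnique_toProjBdl B.hj B.hP B.hO1 B.hφ
    (Groth.LocFree.isInvertible_iff_ofRank_one.2 hP.invertible) q
  obtain ⟨r₂, hr₂, -⟩ := hP.univ B.P B.p B.O1 (Groth.LocFree.isInvertible_iff_ofRank_one.1 hBinv) qB hqB
  have h12 : r₁ ≫ r₂ = 𝟙 P :=
    (hP.univ P π O1 hP.invertible q hP.epi).unique (classifies_comp (q := qB) hr₁ hr₂) (classifies_self π O1 q)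
  have h21 : r₂ ≫ r₁ = 𝟙 B.P :=
    (existsUnique_toProjBdl B.hj B.hP B.hO1 B.hφ hBinv qB).unique
      (classifies_comp (q := q) hr₂ hr₁) (classifies_self B.p B.O1 qB)
  have : IsIso r₁ := ⟨r₂, h12, h21⟩
  let s : (Scheme.Modules.pullback f).obj E ⟶ ClSub.idealMod (BlowUp.exceptional f J) :=
    (Scheme.Modules.pullbackCongr hjπ).inv.app E ≫ (Scheme.Modules.pullbackComp j π).inv.app E ≫
      (Scheme.Modules.pullback j).map q ≫ e.hom
  obtain ⟨hc, τ, heq⟩ := classifies_comp (π' := B.p) (q' := qB) (⟨hjπ, e, rfl⟩ : Classifies π O1 q f _ s j) hr₁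
  have hfits := fits_of_iso B.hj B.hP B.hO1 B.hφ s hc τ heq
  have hσ : IsSystem u (linData s) := by
    intro V x
    have h1 : s ≫ ClSub.idealModι (BlowUp.exceptional f J) = (Scheme.Modules.pullback f).map u ≫
        ((Scheme.Modules.pullbackPushforwardAdjunction f).homEquiv _ _).symm
          (SheafOfModules.unitToPushforwardObjUnit f.toRingCatSheafHom) := by
      rw [← hcomp]; simp [s]
    have h2 := congr(($h1).app (f ⁻¹ᵁ V) (pullSec f E x))
    change (ClSub.idealModι (BlowUp.exceptional f J)).app (f ⁻¹ᵁ V) (s.app (f ⁻¹ᵁ V) (pullSec f E x)) =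
      (((Scheme.Modules.pullbackPushforwardAdjunction f).homEquiv _ _).symm _).app (f ⁻¹ᵁ V)
        (((Scheme.Modules.pullback f).map u).app (f ⁻¹ᵁ V) (pullSec f E x)) at h2
    rw [pullSec_map, symm_app_pullSec] at h2
    exact h2
  -- the local picture
  have hpiece : ∀ (U : X.Opens) (hU : IsAffineOpen U) (n : ℕ) (b : Module.Basis (Fin n) Γ(X, U) Γ(E, U))
      (hK : LCI.IsKoszulRegularSeq Γ(X, U) (List.ofFn fun k => OmegaSh.fnSect X U (u.app U (b k))))
      (k : Fin n), IsClosedImmersion ((j ≫ r₁) ∣_ B.D U hU (b k)) ∧ ∃ rs : List Γ(B.P, B.D U hU (b k)),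
        rs.length = n - 1 ∧ LCI.IsKoszulRegularSeq Γ(B.P, B.D U hU (b k)) rs ∧
          RingHom.ker ((j ≫ r₁).app (B.D U hU (b k))).hom = Ideal.ofList rs := by
    intro U hU n b hK k
    obtain ⟨t, rfl⟩ : ∃ t, n = t + 1 := ⟨n - 1, by have := k.2; omega⟩
    let a : Fin (t + 1) → Γ(X, U) := fun k => OmegaSh.fnSect X U (u.app U (b k))
    have hJU : J.ideal ⟨U, hU⟩ = Ideal.span (Set.range a) := by
      rw [hJ ⟨U, hU⟩]
      refine le_antisymm (Ideal.span_le.2 ?_) (Ideal.span_mono ?_)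
      · rintro _ ⟨x, rfl⟩
        let L : Γ(E, U) →ₗ[Γ(X, U)] Γ(X, U) :=
          { toFun := fun y => OmegaSh.fnSect X U (u.app U y)
            map_add' := fun y y' => by rw [map_add, map_add]
            map_smul' := fun r y => by rw [Scheme.Modules.Hom.app_smul]; rfl }
        have hx : ∀ y : Γ(E, U), L y ∈ Ideal.span (Set.range a) := fun y => by
          rw [← b.sum_repr y, map_sum]
          refine Ideal.sum_mem _ fun k _ => ?_
          rw [map_smul, smul_eq_mul]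
          exact Ideal.mul_mem_left _ _ (Ideal.subset_span ⟨k, rfl⟩)
        exact hx x
      · rintro _ ⟨k, rfl⟩
        exact ⟨b k, rfl⟩
    let σp : Equiv.Perm (Fin (t + 1)) := Equiv.swap 0 k
    let b' := b.reindex σp
    have hb'0 : b' 0 = b k := (b.reindex_apply σp 0).trans (congrArg b (by simp [σp]))
    have ha' : ∀ l, OmegaSh.fnSect X U (u.app U (b' l)) = (a ∘ σp.symm) l := fun l =>
      congrArg (fun y => OmegaSh.fnSect X U (u.app U y)) (b.reindex_apply σp l)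
    have h := piece_of_fits hU hf hσ hfits b' ha'
      (by rw [EquivLike.range_comp]; exact hJU)
      ((Groth.KoszulLCI.isKoszulRegularSeq_perm (Equiv.Perm.ofFn_comp_perm σp.symm a)).2 hK)
    rw [hb'0] at h
    exact h
  have hcover : ∀ w : B.P, ∃ (U : X.Opens) (hU : IsAffineOpen U) (n : ℕ)
      (b : Module.Basis (Fin n) Γ(X, U) Γ(E, U))
      (_ : LCI.IsKoszulRegularSeq Γ(X, U) (List.ofFn fun k => OmegaSh.fnSect X U (u.app U (b k))))
      (k : Fin n), B.p w ∈ U ∧ w ∈ B.D U hU (b k) := by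
    intro w
    obtain ⟨⟨U, hU⟩, hwU, n, b₀, hK⟩ := hu (B.p w)
    let b : Module.Basis (Fin n) Γ(X, U) Γ(E, U) := b₀
    obtain ⟨y, rfl⟩ := exists_emb_eq (chart := B.chart) U hU hwU
    obtain ⟨x, hx⟩ := Groth.SymAlg.exists_notMem B.hj hU y
    obtain ⟨k, hk⟩ : ∃ k, jel B.alg B.j U (b k) ∉ y.asHomogeneousIdeal := by
      by_contra! hall
      refine hx ?_
      have key : ∀ e : Γ(E, U), Groth.SymAlg.liftSec B.alg.toQCAlg B.j U
          (SymmetricAlgebra.ι _ _ e) ∈ y.asHomogeneousIdeal.toIdeal := fun e => by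
        rw [← b.sum_repr e, map_sum, map_sum]
        refine Ideal.sum_mem _ fun k _ => ?_
        rw [map_smul, Algebra.smul_def, map_mul, Groth.SymAlg.liftSec_ι]
        exact Ideal.mul_mem_left _ _ (hall k)
      have := key x
      rw [Groth.SymAlg.liftSec_ι] at this
      exact this
    exact ⟨U, hU, n, b, hK, k, hwU, y, hk, rfl⟩
  choose U hU n b hK k hwU hwD using hcover
  have hclosed : IsClosedImmersion (j ≫ r₁) := by
    refine IsZariskiLocalAtTarget.of_iSup_eq_top (P := @IsClosedImmersion)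
      (fun w => B.D (U w) (hU w) (b w (k w))) (eq_top_iff.2 fun w _ => Opens.mem_iSup.2 ⟨w, hwD w⟩) fun w => ?_
    exact (hpiece (U w) (hU w) (n w) (b w) (hK w) (k w)).1
  have hj : IsClosedImmersion j := (MorphismProperty.cancel_right_of_respectsIso @IsClosedImmersion j r₁).1 hclosed
  have hchart : ∀ z : X', ∃ V : P.affineOpens, j z ∈ V.1 ∧ IsClosedImmersion (j ∣_ V.1) ∧
      ∃ rs : List Γ(P, V.1), LCI.IsKoszulRegularSeq Γ(P, V.1) rs ∧
        RingHom.ker (j.app V.1).hom = Ideal.ofList rs ∧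
        ∀ c : ℕ, FlatMod.IsFinLocFreeOfRank c E → rs.length = c - 1 := by
    intro z
    let w := (j ≫ r₁) z
    obtain ⟨-, rs, hlen, hrs, hker⟩ := hpiece (U w) (hU w) (n w) (b w) (hK w) (k w)
    obtain ⟨V, hzV, hclV, rs', hlen', hrs', hker'⟩ := exists_chart_of_comp_iso j r₁
      ⟨_, isAffineOpen_dPlus B.hj (U w) (hU w) (b w (k w))⟩ z (hwD w) rs hrs hker
    refine ⟨V, hzV, hclV, rs', hrs', hker', fun c hc => ?_⟩
    let p := (hU w).primeIdealOf ⟨B.p w, hwU w⟩
    have := p.nontrivial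
    have h1 := Groth.LocFree.rankAtStalk_sections_ofRank hc (hU w) p
    have := Module.Free.of_basis (b w)
    simp only [Module.rankAtStalk_eq_finrank_of_free, Pi.natCast_apply, Module.finrank_eq_card_basis (b w),
      Fintype.card_fin, Nat.cast_id] at h1
    rw [hlen', hlen, h1]
  refine ⟨hj, ⟨inferInstance, fun z => ?_⟩, fun c hc => ⟨inferInstance, fun z => ?_⟩⟩
  · obtain ⟨V, hzV, hclV, rs, hrs, hker, -⟩ := hchart z
    exact ⟨V, hzV, hclV, rs, hrs, hker⟩
  · obtain ⟨V, hzV, hclV, rs, hrs, hker, hlen⟩ := hchart z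
    exact ⟨V, hzV, hclV, rs, hlen c hc, hrs, hker⟩

end Groth.BlowUpLCI
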