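import Groth.Agent.BlowUpLCI.Scheme
import Groth.Agent.Gorenstein.LCI
import Groth.Agent.Calg6.TorCM
import Groth.Agent.Calg4.RegularAscent
import Groth.Agent.Ega4Algebra2.CMEquiv
import Groth.Prelude.Def_CAlg

/-!
# Local complete intersections over Cohen–Macaulay bases are Cohen–Macaulay
-/

set_option autoImplicit false
set_option linter.style.haveILetI false

universe u

open CategoryTheory AlgebraicGeometry IsLocalRing RingTheory.Sequence

namespace Groth.BlowUpLCI

/-- A quotient of a Cohen–Macaulay local ring by a weakly regular sequence is Cohen–Macaulay. -/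
theorem isCMLocal_quotient (S : Type u) [CommRing S] [hS : LocCoh.IsCohenMacaulayLocalRing S] (l : List S)
    (hmem : ∀ x ∈ l, x ∈ maximalIdeal S) (hl : IsWeaklyRegular S l) :
    LocCoh.IsCohenMacaulayLocalRing (S ⧸ Ideal.ofList l) := by
  have hne : Ideal.ofList l ≠ ⊤ := fun h => (maximalIdeal.isMaximal S).ne_top
    (top_le_iff.mp (h ▸ Ideal.span_le.mpr hmem))
  have hS' : LocCoh.IsCohenMacaulayModule S S := hS.supportDim_eq_depth
  have h := Groth.EGA41Two.isCM_of_equiv (Submodule.quotEquivOfEq (Ideal.ofList l • (⊤ : Submodule S S))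
    (Ideal.ofList l) (by rw [smul_eq_mul, Ideal.mul_top]))
    (Groth.EGA41Two.isCM_quotient_ofList l S hS' hmem hl)
  have : Nontrivial (S ⧸ Ideal.ofList l) := Ideal.Quotient.nontrivial_iff.2 hne
  have : IsLocalRing (S ⧸ Ideal.ofList l) :=
    IsLocalRing.of_surjective' (Ideal.Quotient.mk _) Ideal.Quotient.mk_surjective
  change Module.supportDim S (S ⧸ Ideal.ofList l) = _ at h
  rw [Module.supportDim_quotient_eq_ringKrullDim,
    Groth.Ega4b.depth_eq_of_surjective_algebraMap (B := S ⧸ Ideal.ofList l) Ideal.Quotient.mk_surjective] at h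
  exact { supportDim_eq_depth := by rw [Module.supportDim_self_eq_ringKrullDim]; exact h }

/-- A local complete intersection over a Cohen–Macaulay ring is Cohen–Macaulay. -/
theorem isCohenMacaulayRing_of_isLCI {A B : Type u} [CommRing A] [CommRing B] [Algebra A B]
    [LocCoh.IsCohenMacaulayRing A] (h : LCI.IsLCI A B) : LocCoh.IsCohenMacaulayRing B := by
  obtain ⟨-, n, f, hf, hI⟩ := h
  haveI : LocCoh.IsCohenMacaulayRing (MvPolynomial (Fin n) A) :=
    Groth.Calg4.isCohenMacaulayRing_of_flat_of_regular_fibers A _ fun p _ =>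
      IsRegularRing.of_ringEquiv
        (MvPolynomial.algebraTensorAlgEquiv A p.ResidueField (σ := Fin n)).symm.toRingEquiv
  haveI : IsNoetherianRing B := isNoetherianRing_of_surjective _ _ f.toRingHom hf
  refine { isCohenMacaulayLocalRing_localization := fun m _ => ?_ }
  let q := m.comap f.toRingHom
  have hIq : RingHom.ker f.toRingHom ≤ q := Ideal.ker_le_comap _
  obtain ⟨g, hg, r, hr⟩ := Groth.KoszulLCI.locReg_of_isKoszulRegularIdeal hI q hIq
  obtain ⟨l, -, hl, hlI⟩ := hr q hg
  let R := Localization.AtPrime q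
  haveI : IsNoetherianRing R := IsLocalization.isNoetherianRing q.primeCompl _ inferInstance
  have hmem : ∀ x ∈ l, x ∈ maximalIdeal R := fun x hx =>
    IsLocalRing.le_maximalIdeal (Groth.KoszulLCI.map_atPrime_ne_top hIq)
      (hlI ▸ Groth.KoszulLCI.mem_ofList hx)
  have hreg : IsWeaklyRegular R (List.ofFn l.get) := GrothGoren.isWeaklyRegular_of_koszulH1Zero_get l.get
    (fun i => hmem _ (List.get_mem l i)) (Groth.KoszulReg.koszulH1Zero_of_isKoszulRegularSeq hl)
  rw [List.ofFn_get] at hreg
  haveI : LocCoh.IsCohenMacaulayLocalRing R :=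
    LocCoh.IsCohenMacaulayRing.isCohenMacaulayLocalRing_localization q
  let θ : R →+* Localization.AtPrime m := Localization.localRingHom q m f.toRingHom rfl
  have hθ : Function.Surjective θ := Groth.KoszulLCI.surjective_localRingHom f.toRingHom hf m
  have hker : RingHom.ker θ = Ideal.ofList l :=
    (Groth.KoszulLCI.ker_localRingHom_eq_map f.toRingHom hf m).trans hlI.symm
  exact Groth.Ega4b.isCohenMacaulayLocalRing_of_ringEquiv ((Ideal.quotEquivOfEq hker.symm).trans
    (RingHom.quotientKerEquivOfSurjective hθ)) (isCMLocal_quotient R l hmem hreg)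

/-- The sections of a Cohen–Macaulay scheme on an affine open. -/
theorem isCohenMacaulayRing_section {Y : Scheme.{u}} [IsLocallyNoetherian Y]
    (h : ∀ y : Y, LocCoh.IsCohenMacaulayLocalRing (Y.presheaf.stalk y)) {V : Y.Opens} (hV : IsAffineOpen V) :
    LocCoh.IsCohenMacaulayRing Γ(Y, V) := by
  haveI : IsNoetherianRing Γ(Y, V) := IsLocallyNoetherian.component_noetherian ⟨V, hV⟩
  refine { isCohenMacaulayLocalRing_localization := fun p hp => ?_ }
  let y : PrimeSpectrum Γ(Y, V) := ⟨p, hp⟩
  have hy : hV.fromSpec y ∈ V := by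
    rw [← SetLike.mem_coe, ← hV.range_fromSpec]; exact ⟨y, rfl⟩
  let _ := TopCat.Presheaf.algebra_section_stalk Y.presheaf (U := V) ⟨hV.fromSpec y, hy⟩
  have hloc : IsLocalization.AtPrime (Y.presheaf.stalk (hV.fromSpec y)) p :=
    hV.isLocalization_stalk' y hy
  exact Groth.Ega4b.isCohenMacaulayLocalRing_of_ringEquiv
    (IsLocalization.algEquiv p.primeCompl (Y.presheaf.stalk (hV.fromSpec y))
      (Localization.AtPrime p)).toRingEquiv (h _)

/-- A local complete intersection morphism into a Cohen–Macaulay scheme has Cohen–Macaulay source. -/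
theorem isCohenMacaulay_of_morLCI {X Y : Scheme.{u}} [IsLocallyNoetherian Y]
    (h : ∀ y : Y, LocCoh.IsCohenMacaulayLocalRing (Y.presheaf.stalk y)) (f : X ⟶ Y)
    (hf : Groth.KoszulLCI.MorLCI f) (x : X) : LocCoh.IsCohenMacaulayLocalRing (X.presheaf.stalk x) := by
  obtain ⟨V, hV, hxV, -⟩ := exists_isAffineOpen_mem_and_subset (show f x ∈ (⊤ : Y.Opens) from trivial)
  obtain ⟨U, hU, hxU, hUV'⟩ := exists_isAffineOpen_mem_and_subset (show x ∈ f ⁻¹ᵁ V from hxV)
  have hUV : U ≤ f ⁻¹ᵁ V := hUV'
  let _ := (f.appLE V U hUV).hom.toAlgebra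
  haveI := isCohenMacaulayRing_section h hV
  haveI := isCohenMacaulayRing_of_isLCI ((Groth.KoszulLCI.morLCI_iff f).mp hf U V hU hV hUV)
  let p := (hU.primeIdealOf ⟨x, hxU⟩).asIdeal
  have hloc := hU.isLocalization_stalk ⟨x, hxU⟩
  let _ := TopCat.Presheaf.algebra_section_stalk X.presheaf (U := U) ⟨x, hxU⟩
  exact Groth.Ega4b.isCohenMacaulayLocalRing_of_ringEquiv
    (IsLocalization.algEquiv p.primeCompl (Localization.AtPrime p) (X.presheaf.stalk x)).toRingEquiv
    (LocCoh.IsCohenMacaulayRing.isCohenMacaulayLocalRing_localization p)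

/-- Blow-ups of Cohen–Macaulay schemes in regular ideals are Cohen–Macaulay. -/
theorem isCohenMacaulay_of_isBlowUp {W T : Scheme.{u}} [IsLocallyNoetherian W]
    (hcm : ∀ w : W, LocCoh.IsCohenMacaulayLocalRing (W.presheaf.stalk w))
    (I : W.IdealSheafData) (hI : RegImm.IsRegularIdeal RegImm.Kind.regular I)
    (π : T ⟶ W) (hπ : BlowUp.IsBlowUp π I) (t : T) :
    LocCoh.IsCohenMacaulayLocalRing (T.presheaf.stalk t) := by
  have hi : Mor2.IsRegularClosedImmersion I.subschemeι := by
    refine ⟨inferInstance, fun z => ?_⟩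
    obtain ⟨U, hU, rs, hrs, hid⟩ := hI (I.subschemeι z) (by
      rw [← SetLike.mem_coe, ← I.range_subschemeι]; exact ⟨z, rfl⟩)
    exact ⟨U.1, U.2, hU, rs, hrs, by rw [Scheme.IdealSheafData.ker_subschemeι]; exact hid⟩
  exact isCohenMacaulay_of_morLCI hcm π
    (morLCI_of_isBlowUp I.subschemeι hi π (by rw [Scheme.IdealSheafData.ker_subschemeι]; exact hπ)) t

end Groth.BlowUpLCI
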