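import Groth.Agent.BlowUpLCI.BundleIso
import Groth.Agent.OmegaSheaf.ConormalPull
import Groth.Agent.KoszulLCI.ConormalFree
import Groth.Agent.KoszulLCI.Regular
import Groth.Agent.KoszulLCI.Kinds
import Groth.Agent.AdicLinTop.Thickenings
import Groth.Prelude.Def_Mor2

/-!
# The exceptional divisor of a blow-up along a regular immersion is the projective bundle of the conormal sheaf
-/

universe u

open CategoryTheory CategoryTheory.Limits AlgebraicGeometry Opposite TopologicalSpace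
open scoped HomogeneousIdeal

set_option backward.isDefEq.respectTransparency.types false
set_option linter.style.haveILetI false

noncomputable section

namespace Groth.BlowUpLCI

open Groth.PicAux Groth.RelTw Groth.RelVA Groth.BlowUpBasics Groth.KoszulLCI

/-! ### Transport of the universal property along an isomorphism -/

section Transport

variable {X P P' : Scheme.{u}} {E : X.Modules} {π : P ⟶ X} {O1 : P.Modules}
  {q : (Scheme.Modules.pullback π).obj E ⟶ O1} {π' : P' ⟶ X} {O1' : P'.Modules}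
  {q' : (Scheme.Modules.pullback π').obj E ⟶ O1'}

theorem classifies_inv {r : P' ⟶ P} [IsIso r] (hr : Classifies π O1 q π' O1' q' r) :
    Classifies π' O1' q' π O1 q (inv r) := by
  have hπ : inv r ≫ π' = π := by rw [IsIso.inv_comp_eq]; exact hr.1.symm
  let s := (Scheme.Modules.pullbackCongr hπ).inv.app E ≫ (Scheme.Modules.pullbackComp (inv r) π').inv.app E ≫
    (Scheme.Modules.pullback (inv r)).map q'
  have h0 : Classifies π' O1' q' π _ s (inv r) :=
    ⟨hπ, Iso.refl _, by simp [s]⟩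
  have h1 := classifies_comp h0 hr
  rw [IsIso.inv_hom_id] at h1
  obtain ⟨hg, e, he⟩ := h1
  obtain ⟨hg', e', he'⟩ := classifies_self π O1 q
  refine ⟨hπ, e.symm ≪≫ e', ?_⟩
  have key : ∀ {A B C D : P.Modules} (x : A ⟶ B) (y : B ⟶ C) (z : C ⟶ D) (σ : A ⟶ (Scheme.Modules.pullback (inv r)).obj O1')
      (τ : A ⟶ O1) (i : D ≅ (Scheme.Modules.pullback (inv r)).obj O1') (i' : D ≅ O1),
      x ≫ y ≫ z ≫ i.hom = σ → x ≫ y ≫ z ≫ i'.hom = τ → σ ≫ i.inv ≫ i'.hom = τ := by
    rintro A B C D x y z σ τ i i' rfl rfl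
    simp
  have h2 := key _ _ _ _ _ e e' he he'
  calc _ = s ≫ e.inv ≫ e'.hom := by simp [s]
    _ = q := h2

theorem isProjBundle_of_iso (hP : KRR.IsProjBundle π E O1 q) {r : P' ⟶ P} [IsIso r]
    (hr : Classifies π O1 q π' O1' q' r) (hinv : FlatMod.IsFinLocFreeOfRank 1 O1') :
    KRR.IsProjBundle π' E O1' q' := by
  refine ⟨hinv, ?_, fun T g L hL s hs => ?_⟩
  · obtain ⟨hg, e, rfl⟩ := hr
    have := hP.epi
    exact inferInstance
  · obtain ⟨h, hh, huniq⟩ := hP.univ T g L hL s hs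
    refine ⟨h ≫ inv r, classifies_comp hh (classifies_inv hr), fun h' hh' => ?_⟩
    rw [← huniq (h' ≫ r) (classifies_comp hh' hr)]
    simp

end Transport

/-- A morphism of affine schemes with bijective global functions is an isomorphism. -/
theorem isIso_restrict_of_bijective {X' P : Scheme.{u}} (r : X' ⟶ P) {D : P.Opens}
    (hD : IsAffineOpen D) (h : IsAffineOpen (r ⁻¹ᵁ D)) (hb : Function.Bijective (r.app D).hom) :
    IsIso (r ∣_ D) := by
  have : IsAffine (D : Scheme.{u}) := hD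
  have : IsAffine ((r ⁻¹ᵁ D : X'.Opens) : Scheme.{u}) := h
  have hb' : Function.Bijective (r ∣_ D).appTop.hom := by
    rw [morphismRestrict_appTop]
    have h1 : Function.Bijective (r.app (D.ι ''ᵁ ⊤)).hom := by
      rw [show D.ι ''ᵁ ⊤ = D from Scheme.Opens.ι_image_top D]
      exact hb
    exact (ConcreteCategory.bijective_of_isIso
      (X'.presheaf.map (eqToHom (image_morphismRestrict_preimage r D ⊤)).op)).comp h1
  have : IsIso (r ∣_ D).appTop := (ConcreteCategory.isIso_iff_bijective _).2 hb'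
  have e := Scheme.isoSpec_hom_naturality (r ∣_ D)
  have : IsIso ((r ∣_ D) ≫ (D : Scheme.{u}).isoSpec.hom) := by rw [← e]; infer_instance
  exact IsIso.of_isIso_comp_right _ (D : Scheme.{u}).isoSpec.hom

variable {X Y X₁ Y₁ : Scheme.{u}} {f : X ⟶ Y} {φ : Y₁ ⟶ Y} {f₁ : X₁ ⟶ Y₁} {ψ : X₁ ⟶ X}

section Local

variable {φc : (Scheme.Modules.pullback ψ).obj (Omega.conormal f) ⟶ Omega.conormal f₁}
  {U : Y.Opens} (hU : IsAffineOpen U) {n : ℕ} {a : Fin n → Γ(Y, U)}
  {k : Fin n → Γ(ClSub.idealMod f.ker, U)}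

theorem preimage_chart_le (hsq : IsPullback f₁ ψ φ f) {W : Y₁.Opens} (h : W ≤ φ ⁻¹ᵁ U) :
    f₁ ⁻¹ᵁ W ≤ ψ ⁻¹ᵁ (f ⁻¹ᵁ U) := by
  refine (f₁.preimage_mono h).trans (le_of_eq ?_)
  rw [← Scheme.Hom.comp_preimage, ← Scheme.Hom.comp_preimage, hsq.w]

include hU in
/-- The classes of the generators on a chart of the exceptional divisor. -/
theorem exists_gen_chart (hsq : IsPullback f₁ ψ φ f) [IsClosedImmersion f] [IsClosedImmersion f₁]
    (hφc : OmegaSh.IsConormalMap f₁ f φ ψ φc) (hJ : f.ker.ideal ⟨U, hU⟩ = Ideal.span (Set.range a))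
    (hk : ∀ m, OmegaSh.idealSect f.ker U (k m) = a m) {m : Fin n}
    (C : Chart φ (Ideal.span (Set.range a)) (a m)) :
    Gen (Omega.conormal f₁) (f₁ ⁻¹ᵁ C.W)
        (res _ (preimage_chart_le hsq C.le) ((linData φc).app (f ⁻¹ᵁ U) (OmegaSh.conormalSect f U (k m)))) ∧
      ∀ l, (f₁.app C.W).hom (C.ε.hom.hom (frac (Ideal.span (Set.range a)) (a m) (a l)
          (Ideal.subset_span ⟨l, rfl⟩))) •
        res _ (preimage_chart_le hsq C.le) ((linData φc).app (f ⁻¹ᵁ U) (OmegaSh.conormalSect f U (k m))) =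
        res _ (preimage_chart_le hsq C.le) ((linData φc).app (f ⁻¹ᵁ U) (OmegaSh.conormalSect f U (k l))) := by
  have hker : f₁.ker = f.ker.comap φ := Groth.AdicLinTop.Thickenings.ker_eq_comap_of_isPullback hsq
  have hex : ∀ l, ∃ s : Γ(ClSub.idealMod f₁.ker, φ ⁻¹ᵁ U),
      OmegaSh.idealSect f₁.ker (φ ⁻¹ᵁ U) s = φ.app U (a l) := by
    intro l
    refine Groth.OmegaSheaf.exists_idealSect_of_app_eq_zero f₁ ?_
    have key : ∀ q : X₁ ⟶ Y, q = ψ ≫ f → q.app U (a l) = 0 := by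
      rintro q rfl
      rw [← hk l]
      change ψ.app _ (f.app U _) = 0
      exact (congrArg _ (Groth.OmegaSheaf.app_idealSect f U (k l))).trans (map_zero _)
    exact key (f₁ ≫ φ) hsq.w
  choose s hs using hex
  have hres : ∀ l, res _ (preimage_chart_le hsq C.le)
        ((linData φc).app (f ⁻¹ᵁ U) (OmegaSh.conormalSect f U (k l))) =
      OmegaSh.conormalSect f₁ C.W (res _ C.le (s l)) := by
    intro l
    refine (hφc.2 U (k l) (s l) (by rw [hs, hk]) (f₁ ⁻¹ᵁ C.W) (preimage_chart_le hsq C.le)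
      (f₁.preimage_mono C.le)).trans ?_
    exact Groth.OmegaSheaf.res_conormalSect f₁ C.le (s l)
  have hsect : ∀ l, OmegaSh.idealSect f₁.ker C.W (res _ C.le (s l)) = (φ.appLE U C.W C.le).hom (a l) := by
    intro l
    rw [idealSect_res', hs]
    rfl
  constructor
  · rw [hres]
    refine Gen.pull f₁ (gen_idealMod ⟨C.W, C.affine⟩ ?_ ?_)
    · rw [hsect]
      exact Groth.Divisors.isNzdSec_of_mem C.affine (chart_mem_nonZeroDivisors C)
    · rw [hsect, hker, ideal_comap φ f.ker ⟨U, hU⟩ ⟨C.W, C.affine⟩ C.le, hJ,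
        ← C.ε_algebraMap, CommRingCat.hom_comp, ← Ideal.map_map]
      change ((Ideal.span (Set.range a)).map (algebraMap _ _)).map C.ε.hom.hom = _
      rw [map_eq_span (Ideal.subset_span ⟨m, rfl⟩ : a m ∈ Ideal.span (Set.range a)), Ideal.map_span,
        Set.image_singleton]
      rfl
  · intro l
    rw [hres, hres, ← Groth.OmegaSheaf.conormalSect_smul]
    refine congrArg _ (Groth.OmegaSheaf.idealSect_injective _ _ ?_)
    rw [Groth.OmegaSheaf.idealSect_smul, hsect, hsect, ← chart_alg_apply C, ← chart_alg_apply C,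
      ← map_mul, frac_mul_algebraMap]

include hU in
/-- The loci of the classes of the generators. -/
theorem genLoc_eq_preimage_chart (hsq : IsPullback f₁ ψ φ f) [IsClosedImmersion f] [IsClosedImmersion f₁]
    (hφc : OmegaSh.IsConormalMap f₁ f φ ψ φc) (hJ : f.ker.ideal ⟨U, hU⟩ = Ideal.span (Set.range a))
    (hk : ∀ m, OmegaSh.idealSect f.ker U (k m) = a m)
    (C : ∀ m, Chart φ (Ideal.span (Set.range a)) (a m))
    (hcov : ∀ z, φ z ∈ U → ∃ m, z ∈ (C m).W)
    (hover : ∀ (k m : Fin n) (z : Y₁), z ∈ Y₁.basicOpen ((C m).ε.hom.hom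
      (frac (Ideal.span (Set.range a)) (a m) (a k) (Ideal.subset_span ⟨k, rfl⟩))) → z ∈ (C k).W)
    (l : Fin n) :
    (linData φc).genLoc (f ⁻¹ᵁ U) (OmegaSh.conormalSect f U (k l)) = f₁ ⁻¹ᵁ (C l).W := by
  set σ := linData φc
  set e := fun m => OmegaSh.conormalSect f U (k m) with he
  refine le_antisymm (fun z hz => ?_)
    (σ.le_genLoc (preimage_chart_le hsq (C l).le) (exists_gen_chart hU hsq hφc hJ hk (C l)).1)
  obtain ⟨m, hm⟩ := hcov (f₁ z) (by
    have h1 : f (ψ z) ∈ U := σ.genLoc_le _ _ hz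
    rwa [← Scheme.Hom.comp_apply, ← hsq.w] at h1)
  refine hover l m _ ?_
  let q := (C m).ε.hom.hom (frac (Ideal.span (Set.range a)) (a m) (a l) (Ideal.subset_span ⟨l, rfl⟩))
  let V := f₁ ⁻¹ᵁ (C m).W ⊓ σ.genLoc (f ⁻¹ᵁ U) (e l)
  have hVU : V ≤ ψ ⁻¹ᵁ (f ⁻¹ᵁ U) := inf_le_left.trans (preimage_chart_le hsq (C m).le)
  obtain ⟨hgen, hfrac⟩ := exists_gen_chart hU hsq hφc hJ hk (C m)
  let q' := resX X₁ (inf_le_left : V ≤ f₁ ⁻¹ᵁ (C m).W) ((f₁.app (C m).W).hom q)
  have h1 : q' • res _ hVU (σ.app (f ⁻¹ᵁ U) (e m)) = res _ hVU (σ.app (f ⁻¹ᵁ U) (e l)) := by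
    have := congrArg (res _ (inf_le_left : V ≤ f₁ ⁻¹ᵁ (C m).W)) (hfrac l)
    rwa [PicAux.res_smul, PicAux.res_res, PicAux.res_res] at this
  have h2 : Gen _ V (q' • res _ hVU (σ.app (f ⁻¹ᵁ U) (e m))) := by
    rw [h1]
    have := (σ.gen_genLoc (f ⁻¹ᵁ U) (e l)).res (inf_le_right : V ≤ σ.genLoc (f ⁻¹ᵁ U) (e l))
    rwa [PicAux.res_res] at this
  have h3 : Gen _ V (res _ hVU (σ.app (f ⁻¹ᵁ U) (e m))) := by
    have := hgen.res (inf_le_left : V ≤ f₁ ⁻¹ᵁ (C m).W)
    rwa [PicAux.res_res] at this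
  have h4 : IsUnit q' := h3.isUnit_of_smul h2
  have h5 : z ∈ X₁.basicOpen ((f₁.app (C m).W).hom q) := by
    rw [Scheme.mem_basicOpen X₁ _ z hm]
    have := h4.map (X₁.presheaf.germ V z ⟨hm, hz⟩).hom
    rwa [show (X₁.presheaf.germ V z ⟨hm, hz⟩).hom q' =
      (X₁.presheaf.germ (f₁ ⁻¹ᵁ (C m).W) z hm).hom ((f₁.app (C m).W).hom q) from
        TopCat.Presheaf.germ_res_apply _ _ _ _ _] at this
  rwa [← Scheme.preimage_basicOpen] at h5

variable [(Omega.conormal f).IsQuasicoherent] {B : Bdl (Omega.conormal f)} {r : X₁ ⟶ B.P} {t : ℕ}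

include hU in
/-- On a standard piece the morphism of the exceptional divisor is an isomorphism. -/
theorem isIso_piece (hsq : IsPullback f₁ ψ φ f) [IsClosedImmersion f] [IsClosedImmersion f₁]
    (hblow : BlowUp.IsBlowUp φ f.ker) (hφc : OmegaSh.IsConormalMap f₁ f φ ψ φc)
    (hr : Fits (linData φc) B.hj B.chart r) (hfU : IsAffineOpen (f ⁻¹ᵁ U))
    (b : Module.Basis (Fin (t + 1)) Γ(X, f ⁻¹ᵁ U) Γ(Omega.conormal f, f ⁻¹ᵁ U))
    {a : Fin (t + 1) → Γ(Y, U)} {k : Fin (t + 1) → Γ(ClSub.idealMod f.ker, U)}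
    (hk : ∀ m, OmegaSh.idealSect f.ker U (k m) = a m) (hb : ∀ m, b m = OmegaSh.conormalSect f U (k m))
    (hJ : f.ker.ideal ⟨U, hU⟩ = Ideal.span (Set.range a))
    (hK : LCI.IsKoszulRegularSeq Γ(Y, U) (List.ofFn a)) :
    IsIso (r ∣_ B.D (f ⁻¹ᵁ U) hfU (b 0)) := by
  obtain ⟨C, hcov, hover⟩ := exists_charts hU hblow a hJ
  let σ := linData φc
  have hG : σ.genLoc (f ⁻¹ᵁ U) (b 0) = f₁ ⁻¹ᵁ (C 0).W := by
    rw [hb 0]
    exact genLoc_eq_preimage_chart hU hsq hφc hJ hk C hcov hover 0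
  have hW : r ⁻¹ᵁ B.D (f ⁻¹ᵁ U) hfU (b 0) = f₁ ⁻¹ᵁ (C 0).W := (hr.pre _ hfU (b 0)).trans hG
  let θ := (rAp r hW.ge).comp (polyToPiece B hfU b)
  let μ : MvPolynomial (Fin t) Γ(Y, U) →+* MvPolynomial (Fin t) Γ(X, f ⁻¹ᵁ U) :=
    MvPolynomial.map (f.app U).hom
  let π := ((C 0).ε.hom.hom).comp (Groth.LocCohTransform.BlowupTor.pres a).toRingHom
  obtain ⟨hgen, hfrac⟩ := exists_gen_chart hU hsq hφc hJ hk (C 0)
  have hπC : ∀ y, π (MvPolynomial.C y) = (φ.appLE U (C 0).W (C 0).le).hom y := fun y =>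
    (congrArg (C 0).ε.hom.hom ((Groth.LocCohTransform.BlowupTor.pres a).commutes y)).trans
      (chart_alg_apply (C 0) y)
  have hkey : θ.comp μ = (f₁.app (C 0).W).hom.comp π := by
    refine MvPolynomial.ringHom_ext (fun y => ?_) fun l => ?_
    · rw [RingHom.comp_apply, RingHom.comp_apply, MvPolynomial.map_C, RingHom.comp_apply, polyToPiece_C, hπC]
      refine (rAp_base r hr.comp (dPlus_le _ hfU (b 0)) hW.ge _).trans ?_
      have hw : ∀ (q : X₁ ⟶ Y) (_ : q = f₁ ≫ φ) (hle : f₁ ⁻¹ᵁ (C 0).W ≤ q ⁻¹ᵁ U),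
          (q.appLE U _ hle).hom y = (f₁.app (C 0).W).hom ((φ.appLE U (C 0).W (C 0).le).hom y) := by
        rintro q rfl hle
        rw [Scheme.Hom.app_eq_appLE]
        exact congr(($(Scheme.Hom.appLE_comp_appLE f₁ φ U (C 0).W _ (C 0).le le_rfl)).hom y).symm
      refine Eq.trans ?_ (hw (ψ ≫ f) hsq.w.symm (preimage_chart_le hsq (C 0).le))
      rw [Scheme.Hom.app_eq_appLE f]
      exact congr(($(Scheme.Hom.appLE_comp_appLE ψ f U (f ⁻¹ᵁ U) (f₁ ⁻¹ᵁ (C 0).W) le_rfl
        (preimage_chart_le hsq (C 0).le))).hom y)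
    · rw [RingHom.comp_apply, RingHom.comp_apply, MvPolynomial.map_X, RingHom.comp_apply,
        show polyToPiece B hfU b (MvPolynomial.X l) = coordRatio B hfU (b 0) (b l.succ) from
          MvPolynomial.eval₂Hom_X' _ _ l]
      have h1 : rAp r hW.ge (coordRatio B hfU (b 0) (b l.succ)) =
          resX X₁ hG.ge (σ.ratio (f ⁻¹ᵁ U) (b 0) (b l.succ)) := by
        rw [← resX_rAp r (hr.pre _ hfU (b 0)).ge hG.ge]
        refine congrArg _ ?_
        rw [rAp, hr.fn _ hfU (b 0), coordRatio, σ.rho_coord, σ.fracHom_jfrac, σ.algHom_j]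
      rw [h1]
      rw [hb 0] at hG
      have hπX : π (MvPolynomial.X l) = (C 0).ε.hom.hom (frac (Ideal.span (Set.range a)) (a 0) (a l.succ)
          (Ideal.subset_span ⟨l.succ, rfl⟩)) := by
        refine congrArg (C 0).ε.hom.hom ?_
        exact Subtype.ext (by simp [Groth.LocCohTransform.BlowupTor.pres])
      rw [hπX]
      refine hgen.smul_inj le_rfl ?_
      rw [PicAux.res_self, hfrac l.succ]
      have := congrArg (res _ (le_of_eq (by rw [hb 0, hG]) : f₁ ⁻¹ᵁ (C 0).W ≤ σ.genLoc (f ⁻¹ᵁ U) (b 0)))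
        (σ.ratio_smul (f ⁻¹ᵁ U) (b 0) (b l.succ))
      rw [PicAux.res_smul, PicAux.res_res, PicAux.res_res] at this
      simp only [hb] at this ⊢
      exact this
  -- the kernel
  have hπs : Function.Surjective π :=
    (ConcreteCategory.bijective_of_isIso (C 0).ε.hom).2.comp (pres_surjective' a)
  have hf₁s : Function.Surjective (f₁.app (C 0).W).hom := Groth.KoszulReg.surjective_app f₁ _ (C 0).affine
  have hθμ : Function.Surjective (θ.comp μ) := by rw [hkey]; exact hf₁s.comp hπs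
  have hθs : Function.Surjective θ := fun y => by
    obtain ⟨x, hx⟩ := hθμ y
    exact ⟨μ x, hx⟩
  let I' : Ideal (MvPolynomial (Fin t) Γ(Y, U)) := (Ideal.span (Set.range a)).map MvPolynomial.C
  have hkf : RingHom.ker (f.app U).hom = Ideal.span (Set.range a) :=
    (f.ker_apply ⟨U, hU⟩).symm.trans hJ
  have hI'μ : I' ≤ RingHom.ker μ := by
    rw [MvPolynomial.ker_map, hkf]
  have hkerπ : (RingHom.ker π) ≤ I' := by
    intro x hx
    have hx' : (Groth.LocCohTransform.BlowupTor.pres a).toRingHom x = 0 :=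
      (ConcreteCategory.bijective_of_isIso (C 0).ε.hom).1 (hx.trans (map_zero _).symm)
    rw [← RingHom.mem_ker, ker_pres a hK] at hx'
    refine Ideal.span_le.2 ?_ hx'
    intro y (hy : y ∈ List.ofFn (Groth.LocCohTransform.BlowupTor.rel a))
    obtain ⟨l, rfl⟩ := List.mem_ofFn.1 hy
    refine sub_mem (Ideal.mul_mem_right _ _ ?_) ?_ <;>
      exact Ideal.mem_map_of_mem _ (Ideal.subset_span ⟨_, rfl⟩)
  have hθi : Function.Injective θ := by
    rw [injective_iff_map_eq_zero]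
    intro y hy
    obtain ⟨x, rfl⟩ := MvPolynomial.map_surjective _ (Groth.KoszulReg.surjective_app f U hU) y
    have h1 : (f₁.app (C 0).W).hom (π x) = 0 := (RingHom.congr_fun hkey x).symm.trans hy
    have h2 : π x ∈ I'.map π := by
      have : RingHom.ker (f₁.app (C 0).W).hom = I'.map π := by
        refine (f₁.ker_apply ⟨(C 0).W, (C 0).affine⟩).symm.trans ?_
        rw [Groth.AdicLinTop.Thickenings.ker_eq_comap_of_isPullback hsq,
          ideal_comap φ f.ker ⟨U, hU⟩ ⟨(C 0).W, (C 0).affine⟩ (C 0).le, hJ, Ideal.map_map]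
        exact congrArg (fun g => Ideal.map g _) (RingHom.ext fun z => (hπC z).symm)
      rwa [← this]
    obtain ⟨x', hx', he⟩ := (Ideal.mem_map_iff_of_surjective π hπs).1 h2
    have h3 : x - x' ∈ I' := hkerπ (by rw [RingHom.mem_ker, map_sub, he, sub_self])
    have h4 : x ∈ I' := by simpa using add_mem h3 hx'
    exact hI'μ h4
  have hbij : Function.Bijective (rAp r hW.ge) := by
    have hp := bijective_polyToPiece B hfU b
    exact ⟨(Function.Injective.of_comp_iff' _ hp).1 hθi, Function.Surjective.of_comp (g := polyToPiece B hfU b) hθs⟩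
  obtain ⟨hsurj, hker, haff⟩ := app_eq_of_preimage_eq r hW
  refine isIso_restrict_of_bijective r (isAffineOpen_dPlus B.hj _ hfU (b 0))
    (haff (Groth.KoszulReg.isAffineOpen_preimage f₁ _ (C 0).affine))
    ⟨(RingHom.injective_iff_ker_eq_bot _).2 (hker.trans ((RingHom.injective_iff_ker_eq_bot _).1 hbij.1)),
      hsurj hbij.2⟩

end Local

/-- Regular sequences cutting out the centre give bases of its conormal sheaf. -/
theorem exists_conormal_data (hf : Mor2.IsRegularClosedImmersion f) : ∀ z : X, ∃ (U : Y.Opens) (hU : IsAffineOpen U), f z ∈ U ∧ ∃ (n : ℕ) (a : Fin n → Γ(Y, U))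
      (k : Fin n → Γ(ClSub.idealMod f.ker, U))
      (b : Module.Basis (Fin n) Γ(X, f ⁻¹ᵁ U) Γ(Omega.conormal f, f ⁻¹ᵁ U)),
      (∀ m, OmegaSh.idealSect f.ker U (k m) = a m) ∧ (∀ m, b m = OmegaSh.conormalSect f U (k m)) ∧
      f.ker.ideal ⟨U, hU⟩ = Ideal.span (Set.range a) ∧ LCI.IsKoszulRegularSeq Γ(Y, U) (List.ofFn a) := by
  have := hf.1
  intro z
  obtain ⟨U, hU, hz, rs, hrs, hid⟩ := hf.2 z
  have hK := isKoszulRegularSeq_of_isWeaklyRegular (RingTheory.Sequence.IsRegular.toIsWeaklyRegular hrs)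
  have hW : Groth.OmegaSheaf.IsConormalChart f U :=
    ⟨hU, Groth.KoszulReg.isAffineOpen_preimage f U hU, Groth.KoszulReg.surjective_app f U hU⟩
  have hJ : f.ker.ideal ⟨U, hU⟩ = Ideal.span (Set.range rs.get) := by
    rw [hid, Set.range_list_get]
  have hker : RingHom.ker (f.app U).hom = Ideal.span (Set.range rs.get) :=
    (f.ker_apply ⟨U, hU⟩).symm.trans hJ
  obtain ⟨b, hb⟩ := exists_basis_conormal f hW rs.get (isH1Regular_of_isKoszulRegularSeq hK) hker
  have hex : ∀ m, ∃ k : Γ(ClSub.idealMod f.ker, U), OmegaSh.idealSect f.ker U k = rs.get m := fun m =>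
    Groth.OmegaSheaf.exists_idealSect_of_app_eq_zero f (RingHom.mem_ker.1 (hker ▸ Ideal.subset_span ⟨m, rfl⟩))
  choose k hk using hex
  exact ⟨U, hU, hz, rs.length, rs.get, k, b, hk, fun m => hb m _ (hk m), hJ, by rwa [List.ofFn_get]⟩

/-- For a blow-up along a regular closed immersion, the exceptional divisor is any given model of the bundle of
the conormal sheaf. -/
theorem exists_iso_bdl [(Omega.conormal f).IsQuasicoherent] (hf : Mor2.IsRegularClosedImmersion f)
    (hblow : BlowUp.IsBlowUp φ f.ker) (hsq : IsPullback f₁ ψ φ f) (B : Bdl (Omega.conormal f)) :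
    ∃ (φc : (Scheme.Modules.pullback ψ).obj (Omega.conormal f) ⟶ Omega.conormal f₁) (r : X₁ ⟶ B.P),
      IsIso r ∧ PicF.IsInvertible (Omega.conormal f₁) ∧
        Classifies B.p B.O1 (((Scheme.Modules.pullbackPushforwardAdjunction B.p).homEquiv _ B.O1).symm B.φ)
          ψ (Omega.conormal f₁) φc r := by
  have := hf.1
  have : IsClosedImmersion f₁ := MorphismProperty.of_isPullback hsq.flip ‹_›
  have hdata := exists_conormal_data hf
  obtain ⟨φc, hφc, -⟩ := Groth.OmegaSheaf.existsUnique_isConormalMap f₁ f φ ψ hsq.w.symm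
  have hgenX : ∀ z : X₁, ∃ (V : X.Opens) (_ : IsAffineOpen V) (e : Γ(Omega.conormal f, V)),
      z ∈ (linData φc).genLoc V e := by
    intro z
    obtain ⟨U, hU, hz, n, a, k, b, hk, hb, hJ, hK⟩ := hdata (ψ z)
    obtain ⟨C, hcov, hover⟩ := exists_charts hU hblow a hJ
    obtain ⟨m, hm⟩ := hcov (f₁ z) (by rwa [← Scheme.Hom.comp_apply, hsq.w])
    refine ⟨f ⁻¹ᵁ U, Groth.KoszulReg.isAffineOpen_preimage f U hU, OmegaSh.conormalSect f U (k m), ?_⟩
    rw [genLoc_eq_preimage_chart hU hsq hφc hJ hk C hcov hover m]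
    exact hm
  have hL : PicF.IsInvertible (Omega.conormal f₁) := (isInvertible_iff_exists_gen _).2 fun z => by
    obtain ⟨V, -, e, hz⟩ := hgenX z
    exact ⟨_, _, hz, (linData φc).gen_genLoc V e⟩
  let qB := ((Scheme.Modules.pullbackPushforwardAdjunction B.p).homEquiv _ B.O1).symm B.φ
  obtain ⟨r, hr⟩ := exists_fits (linData φc) B.hj B.hP B.hO1 B.hφ hgenX
  have hclass : Classifies B.p B.O1 qB ψ (Omega.conormal f₁) φc r :=
    exists_iso_of_fits B.hj B.hO1 B.hφ φc hr
  have hcover : ∀ w : B.P, ∃ D : B.P.Opens, w ∈ D ∧ IsIso (r ∣_ D) := by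
    intro w
    obtain ⟨U, hU, hz, n, a, k, b, hk, hb, hJ, hK⟩ := hdata (B.p w)
    have hfU := Groth.KoszulReg.isAffineOpen_preimage f U hU
    obtain ⟨y, rfl⟩ := exists_emb_eq (chart := B.chart) (f ⁻¹ᵁ U) hfU hz
    obtain ⟨x, hx⟩ := Groth.SymAlg.exists_notMem B.hj hfU y
    obtain ⟨m, hm⟩ : ∃ m, jel B.alg B.j (f ⁻¹ᵁ U) (b m) ∉ y.asHomogeneousIdeal := by
      by_contra! hall
      refine hx ?_
      have key : ∀ e : Γ(Omega.conormal f, f ⁻¹ᵁ U), Groth.SymAlg.liftSec B.alg.toQCAlg B.j (f ⁻¹ᵁ U)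
          (SymmetricAlgebra.ι _ _ e) ∈ y.asHomogeneousIdeal.toIdeal := fun e => by
        rw [← b.sum_repr e, map_sum, map_sum]
        refine Ideal.sum_mem _ fun k _ => ?_
        rw [map_smul, Algebra.smul_def, map_mul, Groth.SymAlg.liftSec_ι]
        exact Ideal.mul_mem_left _ _ (hall k)
      have := key x
      rw [Groth.SymAlg.liftSec_ι] at this
      exact this
    obtain ⟨t, rfl⟩ : ∃ t, n = t + 1 := ⟨n - 1, by have := m.2; omega⟩
    let σp : Equiv.Perm (Fin (t + 1)) := Equiv.swap 0 m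
    refine ⟨B.D (f ⁻¹ᵁ U) hfU (b m), ⟨y, hm, rfl⟩, ?_⟩
    have hb'0 : b.reindex σp 0 = b m := (b.reindex_apply σp 0).trans (congrArg b (by simp [σp]))
    have h := isIso_piece hU hsq hblow hφc hr hfU (b.reindex σp) (a := a ∘ σp.symm) (k := k ∘ σp.symm)
      (fun l => hk _) (fun l => (b.reindex_apply σp l).trans (hb _))
      (by rw [EquivLike.range_comp]; exact hJ)
      ((Groth.KoszulLCI.isKoszulRegularSeq_perm (Equiv.Perm.ofFn_comp_perm σp.symm a)).2 hK)
    rwa [hb'0] at h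
  choose D hwD hD using hcover
  have : IsIso r := IsZariskiLocalAtTarget.of_iSup_eq_top (P := MorphismProperty.isomorphisms Scheme) D
    (eq_top_iff.2 fun w _ => Opens.mem_iSup.2 ⟨w, hwD w⟩) hD
  exact ⟨φc, r, inferInstance, hL, hclass⟩

/-- The conormal sheaf of a regular closed immersion is finite locally free. -/
theorem isFinLocFree_conormal_of_regular (hf : Mor2.IsRegularClosedImmersion f) :
    FlatMod.IsFinLocFree (Omega.conormal f) := by
  have := hf.1
  have hdata := exists_conormal_data hf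
  exact Groth.LocFree.isFinLocFree_of_affine_cover fun z => by
      obtain ⟨U, hU, hz, n, a, k, b, -⟩ := hdata z
      exact ⟨f ⁻¹ᵁ U, Groth.KoszulReg.isAffineOpen_preimage f U hU, hz, Module.Finite.of_basis b,
        haveI := Module.Free.of_basis b; inferInstance⟩

/-- The exceptional divisor of a blow-up along a regular closed immersion is the projective bundle of the
conormal sheaf, with the conormal sheaf of the divisor as `O(1)`. -/
theorem exists_isProjBundle_conormal (hf : Mor2.IsRegularClosedImmersion f) (hblow : BlowUp.IsBlowUp φ f.ker)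
    (hsq : IsPullback f₁ ψ φ f) :
    ∃ q : (Scheme.Modules.pullback ψ).obj (Omega.conormal f) ⟶ Omega.conormal f₁,
      KRR.IsProjBundle ψ (Omega.conormal f) (Omega.conormal f₁) q := by
  have : (Omega.conormal f).IsQuasicoherent := KTheory.LocFree.isQCoh (isFinLocFree_conormal_of_regular hf)
  obtain ⟨B⟩ := exists_bdl (Omega.conormal f)
  obtain ⟨φc, r, _, hL, hclass⟩ := exists_iso_bdl hf hblow hsq B
  let qB := ((Scheme.Modules.pullbackPushforwardAdjunction B.p).homEquiv _ B.O1).symm B.φ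
  have hBinv : PicF.IsInvertible B.O1 := Groth.RelTw.isInvertible B.lam B.hO1 (Groth.SymAlg.isGenDegOne B.hj)
  have hPB : KRR.IsProjBundle B.p (Omega.conormal f) B.O1 qB :=
    ⟨Groth.LocFree.isInvertible_iff_ofRank_one.1 hBinv, epi_adjoint B.hj B.hO1 B.hφ, fun T g L hL' s hs =>
      haveI := hs
      existsUnique_toProjBdl B.hj B.hP B.hO1 B.hφ (Groth.LocFree.isInvertible_iff_ofRank_one.2 hL') s⟩
  exact ⟨φc, isProjBundle_of_iso hPB hclass (Groth.LocFree.isInvertible_iff_ofRank_one.1 hL)⟩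

end Groth.BlowUpLCI
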